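import Cfsg.Agent.Lib.Fischer.Cent24.Triangle

/-!
# The image of the second generator
-/

set_option autoImplicit false
set_option maxRecDepth 100000

namespace Cfsg.Lib.Fischer.Cent24

open Cfsg Cfsg.Lib.CosetEnum Cfsg.Lib.BigPerm Cfsg.Lib.BigPerm.Fi24 Cfsg.Lib.BigPerm.Fi24Cert
open Cfsg.Lib.Fischer Cfsg.Lib.Fischer.Relations Cfsg.Lib.Fischer.M24

local notation "G1" => Cfsg.Spor.Fi24
local notation "D1" => Cfsg.Lib.BigPerm.Fi24.D
local notation "x" => Cfsg.Lib.BigPerm.Fi24.x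
local notation "nine" => ([3, 4, 5, 6, 7, 8, 9, 10, 11] : List ℕ)

attribute [local instance] fin24

theorem x_conj_sq (g : ℕ) : (x g)⁻¹ = x g := inv_eq_of_mul_eq_one_left (x_mul_self g)

theorem nine_lt {g : ℕ} (h : g ∈ nine) : g < 12 ∧ 2 ≤ g := (show ∀ g ∈ nine, g < 12 ∧ 2 ≤ g by decide) g h

theorem nine_mem_B {g : ℕ} (h : g ∈ nine) : x g ∈ Bsub := by
  have := mem_subW_of_over ((show ∀ g ∈ nine, overOK b80Words [g] = true by decide +kernel) g h)
  rwa [Fi24.wordVal_one (by simp only [eps]; have := (nine_lt h).1; omega)] at this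

theorem nine_perp {g : ℕ} (h : g ∈ nine) : x g ∈ perp D1 (x 0) :=
  x_perp (nine_lt h).1 (by have := (nine_lt h).2; omega) (by have := (nine_lt h).2; omega)

theorem nine_comm_one {g : ℕ} (h : g ∈ nine) : Commute (x g) (x 1) := (mem_Lsub.1 (B_le_L (nine_mem_B h))).2

theorem braid_not_commute {a b : ℕ} (ha : a < 12) (hb : b < 12) (hne : a ≠ b)
    (h : [b, a, b, a, b, a] ∈ numbering.pairs) : ¬ Commute (x a) (x b) := fun hc => x_ne ha hb hne (by
  have e := Fi24.braid ha hb h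
  rw [hc.eq, mul_assoc, x_mul_self, mul_one, mul_assoc, hc.eq, ← mul_assoc, x_mul_self, one_mul] at e
  exact e.symm)

theorem braid_move {a b : ℕ} (ha : a < 12) (hb : b < 12) (h : [b, a, b, a, b, a] ∈ numbering.pairs) :
    x a * x b * x a * (x a * x b)⁻¹ = x b ∧ (x a * x b)⁻¹ * x b * (x a * x b) = x a := by
  constructor
  · rw [Fi24.braid ha hb h]; group
  · rw [show (x a * x b)⁻¹ * x b * (x a * x b) = (x a * x b)⁻¹ * (x b * x a * x b) by group, ← Fi24.braid ha hb h]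
    group

/-- The nine are conjugate in the subgroup they generate. -/
theorem nine_conj {g : ℕ} (h : g ∈ nine) : ∃ β ∈ Bsub, β * x 9 * β⁻¹ = x g := by
  have step : ∀ e ∈ [(3, 4), (4, 5), (5, 6), (6, 7), (7, 8), (8, 9), (5, 10), (10, 11)],
      ((∃ β ∈ Bsub, β * x 9 * β⁻¹ = x e.2) → ∃ β ∈ Bsub, β * x 9 * β⁻¹ = x e.1) ∧
      ((∃ β ∈ Bsub, β * x 9 * β⁻¹ = x e.1) → ∃ β ∈ Bsub, β * x 9 * β⁻¹ = x e.2) := by
    intro e he
    obtain ⟨h1, h2, h3⟩ := (show ∀ e ∈ [(3, 4), (4, 5), (5, 6), (6, 7), (7, 8), (8, 9), (5, 10), (10, 11)],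
      e.1 ∈ nine ∧ e.2 ∈ nine ∧ [e.2, e.1, e.2, e.1, e.2, e.1] ∈ numbering.pairs by decide +kernel) e he
    obtain ⟨m1, m2⟩ := braid_move (nine_lt h1).1 (nine_lt h2).1 h3
    have hm : x e.1 * x e.2 ∈ Bsub := mul_mem (nine_mem_B h1) (nine_mem_B h2)
    refine ⟨?_, ?_⟩ <;> rintro ⟨β, hβ, eβ⟩
    · refine ⟨(x e.1 * x e.2)⁻¹ * β, mul_mem (inv_mem hm) hβ, ?_⟩
      rw [show (x e.1 * x e.2)⁻¹ * β * x 9 * ((x e.1 * x e.2)⁻¹ * β)⁻¹ =
        (x e.1 * x e.2)⁻¹ * (β * x 9 * β⁻¹) * (x e.1 * x e.2) by group, eβ, m2]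
    · refine ⟨x e.1 * x e.2 * β, mul_mem hm hβ, ?_⟩
      rw [show x e.1 * x e.2 * β * x 9 * (x e.1 * x e.2 * β)⁻¹ =
        x e.1 * x e.2 * (β * x 9 * β⁻¹) * (x e.1 * x e.2)⁻¹ by group, eβ, m1]
  have h9 : ∃ β ∈ Bsub, β * x 9 * β⁻¹ = x 9 := ⟨1, one_mem _, by group⟩
  have h8 := (step (8, 9) (by decide)).1 h9
  have h7 := (step (7, 8) (by decide)).1 h8
  have h6 := (step (6, 7) (by decide)).1 h7
  have h5 := (step (5, 6) (by decide)).1 h6
  have h4 := (step (4, 5) (by decide)).1 h5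
  have h3 := (step (3, 4) (by decide)).1 h4
  have h10 := (step (5, 10) (by decide)).2 h5
  have h11 := (step (10, 11) (by decide)).2 h10
  simp only [List.mem_cons, List.not_mem_nil, or_false] at h
  rcases h with rfl | rfl | rfl | rfl | rfl | rfl | rfl | rfl | rfl
  exacts [h3, h4, h5, h6, h7, h8, h9, h10, h11]

/-- A third generator commuting with a given one and with one another. -/
theorem nine_triple : ∀ v ∈ nine, ∃ a ∈ nine, ∃ b ∈ nine, a ≠ v ∧ b ≠ v ∧ a ≠ b ∧
    [a, v, a, v] ∈ numbering.pairs ∧ [b, v, b, v] ∈ numbering.pairs ∧ [b, a, b, a] ∈ numbering.pairs := by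
  decide +kernel

/-- An outer involution centralising the products of pairs of the nine centralises each of them, granted another
one does. -/
def Steady {X : Type*} [Group X] (G₀ : Subgroup X) (ι : Cfsg.Spor.Fi23 →* X) (d : X) : Prop :=
  ∀ u u' : X, u ∉ G₀ → u' ∉ G₀ → u * u = 1 → u' * u' = 1 → (∀ v ∈ nine, Commute u (toX ι d (x v))) →
    (∀ v ∈ nine, ∀ w ∈ nine, Commute u' (toX ι d (x v) * toX ι d (x w))) →
    ∀ v ∈ nine, Commute u' (toX ι d (x v))

namespace Side

variable {X : Type*} [Group X] [Finite X] {G₀ : Subgroup X} {d τ o τ₂ : X} {ι : Cfsg.Spor.Fi23 →* X}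
  {a : G1} {r : G1 × X}

/-- The transported map. -/
noncomputable def via (ι : Cfsg.Spor.Fi23 →* X) (d : X) (r : G1 × X) (h g : G1) : X :=
  toX ι d h * lift (toX ι d) r (h⁻¹ * g * h) * (toX ι d h)⁻¹

variable (S : Side G₀ d τ o τ₂ ι) (Sd : Seed D1 (x 0) d (toX ι d) a r)
include S Sd

omit S Sd in
theorem back {h b g : G1} (e : h * a * h⁻¹ = b) (hg : Commute g b) : Commute (h⁻¹ * g * h) a := by
  rw [← Commute.conj_iff h, e]
  simpa [mul_assoc] using hg

theorem via_fix {h b g : G1} (hh : Commute h (x 0)) (e : h * a * h⁻¹ = b) (hg0 : Commute g (x 0))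
    (hgb : Commute g b) : via ι d r h g = toX ι d g := by
  have P := S.twin
  have h1 : Commute (h⁻¹ * g * h) (x 0) := (hh.inv_left.mul_left hg0).mul_left hh
  rw [via, Sd.fix h1 (back e hgb), ← P.map_conj hh h1]
  congr 1
  group

theorem via_mul {h b g g' : G1} (e : h * a * h⁻¹ = b) (hg : Commute g b) (hg' : Commute g' b) :
    via ι d r h (g * g') = via ι d r h g * via ι d r h g' := by
  rw [via, via, via, show h⁻¹ * (g * g') * h = h⁻¹ * g * h * (h⁻¹ * g' * h) by group,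
    S.twin.lift_mul Sd (back e hg) (back e hg')]
  group

theorem via_comm {h b g g' : G1} (e : h * a * h⁻¹ = b) (hg : Commute g b) (hg' : Commute g' b)
    (hc : Commute g g') : Commute (via ι d r h g) (via ι d r h g') := by
  show via ι d r h g * via ι d r h g' = via ι d r h g' * via ι d r h g
  rw [← via_mul S Sd e hg hg', ← via_mul S Sd e hg' hg, hc.eq]

theorem via_indep {h h' b g : G1} (hh : Commute h (x 0)) (hh' : Commute h' (x 0)) (e : h * a * h⁻¹ = b)
    (e' : h' * a * h'⁻¹ = b) (hg : Commute g b) : via ι d r h g = via ι d r h' g := by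
  have P := S.twin
  have k0 : Commute (h⁻¹ * h') (x 0) := hh.inv_left.mul_left hh'
  have ka : Commute (h⁻¹ * h') a := by
    refine mul_inv_eq_iff_eq_mul.1 ?_
    rw [show h⁻¹ * h' * a * (h⁻¹ * h')⁻¹ = h⁻¹ * (h' * a * h'⁻¹) * h by group, e', ← e]
    group
  have key := P.lift_conj Sd k0 ka (back e' hg)
  rw [show h⁻¹ * h' * (h'⁻¹ * g * h') * (h⁻¹ * h')⁻¹ = h⁻¹ * g * h by group, P.mul _ _ hh.inv_left hh',
    P.map_inv hh] at key
  rw [via, via, key]
  group

theorem via_conj {h g k : G1} (hh : Commute h (x 0)) (hk : Commute k (x 0)) :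
    via ι d r (k * h) g = toX ι d k * via ι d r h (k⁻¹ * g * k) * (toX ι d k)⁻¹ := by
  rw [via, via, S.twin.mul _ _ hk hh, show (k * h)⁻¹ * g * (k * h) = h⁻¹ * (k⁻¹ * g * k) * h by group]
  group

/-- The second generator's image at a neighbour. -/
theorem via_one_out {h b : G1} (hh : Commute h (x 0)) (e : h * a * h⁻¹ = b) (hb : Commute (x 1) b) :
    via ι d r h (x 1) ∉ G₀ := by
  haveI hn : G₀.Normal := Subgroup.normal_of_index_eq_two S.index
  have h1 : Commute (r.1 * (h⁻¹ * x 1 * h) * r.1) (x 0) := Sd.to_d (back e hb)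
  have hout : r.1 * (h⁻¹ * x 1 * h) * r.1 ∉ D24 := fun hm => x_not_mem (g := 1) (by decide) (by
    haveI : (D24 : Subgroup G1).Normal := inferInstance
    have := ‹(D24 : Subgroup G1).Normal›.conj_mem _ hm (h * r.1)
    rwa [mul_inv_rev, Sd.inv₁, show h * r.1 * (r.1 * (h⁻¹ * x 1 * h) * r.1) * (r.1 * h⁻¹) =
      h * (r.1 * r.1) * h⁻¹ * x 1 * h * (r.1 * r.1) * h⁻¹ by group, Sd.sq₁,
      show h * 1 * h⁻¹ * x 1 * h * 1 * h⁻¹ = x 1 by group] at this)
  intro hm
  refine hout ((S.toX_mem_iff (mem_H_iff.2 h1)).1 ?_)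
  have := hn.conj_mem _ hm (toX ι d h * r.2)⁻¹
  rwa [via, M24.lift, inv_inv, mul_inv_rev, Sd.inv₂,
    show r.2 * (toX ι d h)⁻¹ * (toX ι d h * (r.2 * toX ι d (r.1 * (h⁻¹ * x 1 * h) * r.1) * r.2) * (toX ι d h)⁻¹) *
      (toX ι d h * r.2) = r.2 * r.2 * toX ι d (r.1 * (h⁻¹ * x 1 * h) * r.1) * (r.2 * r.2) by group,
    Sd.sq₂, one_mul, mul_one] at this

/-- An element centralising a product of two commuting neighbours keeps or exchanges them. -/
theorem pair_perm (hat : toX ι d a = d * τ)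
    (htwo : ∀ c, Commute c τ → c * d * c⁻¹ = d ∨ c * d * c⁻¹ = d * τ) {v w : G1} (hv : v ∈ perp D1 (x 0)) (hw : w ∈ perp D1 (x 0))
    (hvw : w ∈ perp D1 v) {c : X} (hc : Commute c (toX ι d v * toX ι d w)) :
    c * toX ι d v * c⁻¹ = toX ι d v ∨ c * toX ι d v * c⁻¹ = toX ι d w := by
  obtain ⟨d0, K⟩ := exists_data
  have P := S.twin
  have h0 : x 0 ∈ D1 := x_mem (by decide)
  obtain ⟨m, hm, em⟩ := perp_transitive K.fis h0 Sd.mem hv
  have hm0 : Commute m (x 0) := mem_H_iff.1 (closure_perp_H hm)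
  obtain ⟨w1, hw1⟩ : ∃ w1, w1 = r.1 * (m⁻¹ * w * m) * r.1 := ⟨_, rfl⟩
  have hw1d : Commute (m⁻¹ * w * m) (x 0) := (hm0.inv_left.mul_left hw.2.2.symm).mul_left hm0
  have hw1a : Commute (m⁻¹ * w * m) a := back em hvw.2.2.symm
  have hw1p : w1 ∈ perp D1 (x 0) := by
    have h1 : m⁻¹ * w * m ∈ perp D1 a := (mem_perp_conj K.trans m a w).1 (by rw [em]; exact hvw)
    have := conj_perp K.fis r.1 a h1
    rwa [Sd.inv₁, Sd.back₁, ← hw1] at this
  obtain ⟨k, hk, ek⟩ := perp_transitive K.fis h0 Sd.mem hw1p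
  have hk0 : Commute k (x 0) := mem_H_iff.1 (closure_perp_H hk)
  obtain ⟨G, hG⟩ : ∃ G, G = toX ι d m * r.2 * toX ι d k := ⟨_, rfl⟩
  have hGd : G * d * G⁻¹ = toX ι d v := by
    rw [hG, show toX ι d m * r.2 * toX ι d k * d * (toX ι d m * r.2 * toX ι d k)⁻¹ =
      toX ι d m * (r.2 * (toX ι d k * d * (toX ι d k)⁻¹) * r.2⁻¹) * (toX ι d m)⁻¹ by group,
      (P.maps k hk0).eq, mul_inv_cancel_right, Sd.inv₂, Sd.move₂, ← P.map_conj hm0 Sd.mem.2.2.symm, em]
  have hGb : G * (d * τ) * G⁻¹ = toX ι d w := by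
    rw [← hat, hG, show toX ι d m * r.2 * toX ι d k * toX ι d a * (toX ι d m * r.2 * toX ι d k)⁻¹ =
      toX ι d m * (r.2 * (toX ι d k * toX ι d a * (toX ι d k)⁻¹) * r.2⁻¹) * (toX ι d m)⁻¹ by group,
      ← P.map_conj hk0 Sd.mem.2.2.symm, ek, Sd.inv₂, ← Sd.apply (hw1 ▸ Sd.to_d hw1a) (hw1 ▸ Sd.to_a hw1d), hw1,
      show r.1 * (r.1 * (m⁻¹ * w * m) * r.1) * r.1 = r.1 * r.1 * (m⁻¹ * w * m) * (r.1 * r.1) by group, Sd.sq₁,
      one_mul, mul_one, ← P.map_conj hm0 hw1d]
    congr 1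
    group
  have hprod : G * τ * G⁻¹ = toX ι d v * toX ι d w := by
    rw [← hGd, ← hGb, show G * d * G⁻¹ * (G * (d * τ) * G⁻¹) = G * (d * d * τ) * G⁻¹ by group, S.dd, one_mul]
  have hc' : Commute (G⁻¹ * c * G) τ := by
    rw [← Commute.conj_iff G, hprod, show G * (G⁻¹ * c * G) * G⁻¹ = c by group]
    exact hc
  have e : c * toX ι d v * c⁻¹ = G * ((G⁻¹ * c * G) * d * (G⁻¹ * c * G)⁻¹) * G⁻¹ := by rw [← hGd]; group
  rcases htwo _ hc' with h1 | h1
  · exact Or.inl (by rw [e, h1, hGd])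
  · exact Or.inr (by rw [e, h1, hGb])

/-- Two values at the transposition make the outer involutions steady. -/
theorem steady_of_two (hat : toX ι d a = d * τ)
    (htwo : ∀ c, Commute c τ → c * d * c⁻¹ = d ∨ c * d * c⁻¹ = d * τ) : Steady G₀ ι d := by
  intro u u' _ _ huu _ hu hu' v hv
  have P := S.twin
  obtain ⟨c, hc⟩ : ∃ c, c = u' * u := ⟨_, rfl⟩
  have hcp : ∀ v ∈ nine, ∀ w ∈ nine, Commute c (toX ι d (x v) * toX ι d (x w)) := fun v hv w hw =>
    hc ▸ (hu' v hv w hw).mul_left ((hu v hv).mul_right (hu w hw))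
  obtain ⟨w, hw, w', hw', nwv, nw'v, nww', p1, p2, -⟩ := nine_triple v hv
  have hperp : ∀ {w}, w ∈ nine → w ≠ v → [w, v, w, v] ∈ numbering.pairs → x w ∈ perp D1 (x v) := fun {w} hw hne hp =>
    ⟨x_mem (nine_lt hw).1, x_ne (nine_lt hw).1 (nine_lt hv).1 hne, x_comm (nine_lt hv).1 (nine_lt hw).1 hp⟩
  have hfix : c * toX ι d (x v) * c⁻¹ = toX ι d (x v) := by
    rcases pair_perm S Sd hat htwo (nine_perp hv) (nine_perp hw) (hperp hw nwv p1) (hcp v hv w hw) with e | e
    · exact e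
    rcases pair_perm S Sd hat htwo (nine_perp hv) (nine_perp hw') (hperp hw' nw'v p2) (hcp v hv w' hw') with e' | e'
    · exact e'
    exact absurd (P.inj _ _ (nine_perp hw).2.2.symm (nine_perp hw').2.2.symm (e.symm.trans e'))
      (x_ne (nine_lt hw).1 (nine_lt hw').1 nww')
  rw [show u' = c * u by rw [hc, mul_assoc, huu, mul_one]]
  exact Commute.mul_left (mul_inv_eq_iff_eq_mul.1 hfix) (hu v hv)

set_option maxHeartbeats 1000000 in
/-- The image of the second generator. -/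
theorem exists_second (hst : Steady G₀ ι d) : ∃ (m : G1) (u : X), Commute m (x 0) ∧ m * a * m⁻¹ = x 9 ∧
    u = via ι d r m (x 1) ∧ u * u = 1 ∧ (d * u) ^ 3 = 1 ∧ u ∉ G₀ ∧
    ∀ τ' ∈ Lsub, Commute u (toX ι d τ') := by
  obtain ⟨d0, K⟩ := exists_data
  have P := S.twin
  have h0 : x 0 ∈ D1 := x_mem (by decide)
  have h9p := nine_perp (g := 9) (by decide)
  obtain ⟨m, hm, em⟩ := perp_transitive K.fis h0 Sd.mem h9p
  have hm0 : Commute m (x 0) := mem_H_iff.1 (closure_perp_H hm)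
  have c19 : Commute (x 1) (x 9) := (nine_comm_one (g := 9) (by decide)).symm
  have c09 : Commute (x 0) (x 9) := h9p.2.2
  obtain ⟨u, hu⟩ : ∃ u, u = via ι d r m (x 1) := ⟨_, rfl⟩
  have vd : via ι d r m (x 0) = d := by rw [via_fix S Sd hm0 em (Commute.refl _) c09, P.base]
  have v1 : via ι d r m 1 = 1 := by rw [via_fix S Sd hm0 em (Commute.one_left _) (Commute.one_left _), P.map_one]
  have huu : u * u = 1 := by rw [hu, ← via_mul S Sd em c19 c19, x_mul_self, v1]
  have hdu : (d * u) ^ 3 = 1 := by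
    have cp : Commute (x 0 * x 1) (x 9) := c09.mul_left c19
    have e3 : x 0 * x 1 * (x 0 * x 1) * (x 0 * x 1) = 1 := by
      have hb := Fi24.braid (a := 0) (b := 1) (by decide) (by decide) (by decide +kernel)
      rw [show x 0 * x 1 * (x 0 * x 1) * (x 0 * x 1) = (x 0 * x 1 * x 0) * (x 1 * x 0 * x 1) by group, hb,
        show x 1 * x 0 * x 1 * (x 1 * x 0 * x 1) = x 1 * x 0 * (x 1 * x 1) * x 0 * x 1 by group, x_mul_self]
      rw [mul_one, mul_assoc (x 1) (x 0) (x 0), x_mul_self, mul_one, x_mul_self]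
    rw [pow_three', show d * u = via ι d r m (x 0 * x 1) by rw [via_mul S Sd em c09 c19, vd, hu],
      ← via_mul S Sd em cp cp, ← via_mul S Sd em (cp.mul_left cp) cp, e3, v1]
  have hout : u ∉ G₀ := hu ▸ via_one_out S Sd hm0 em c19
  -- the nine
  have hnine : ∀ g ∈ nine, Commute u (toX ι d (x g)) := by
    intro g hg
    by_cases h8 : g = 8
    · subst h8
      have h11 := nine_perp (g := 11) (by decide)
      have c98 : [11, 9, 11, 9] ∈ numbering.pairs := by decide +kernel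
      have hc119 : Commute (x 9) (x 11) := x_comm (by decide) (by decide) c98
      obtain ⟨b, hb⟩ : ∃ b, b = m⁻¹ * x 11 * m := ⟨_, rfl⟩
      have hbp : b ∈ perp D1 (x 0) := by
        have := conj_perp K.fis m⁻¹ (x 0) h11
        rwa [(hm0.inv_left).eq, mul_inv_cancel_right, inv_inv, ← hb] at this
      have hba : b ∈ perp D1 a := by
        rw [hb, ← mem_perp_conj K.trans, em]
        exact ⟨x_mem (by decide), x_ne (by decide) (by decide) (by decide), hc119⟩
      have hga : Commute (m⁻¹ * x 1 * m) a := back em c19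
      have c111 : Commute (x 1) (x 11) := (nine_comm_one (g := 11) (by decide)).symm
      have hgb : Commute (m⁻¹ * x 1 * m) b := by
        rw [hb, ← Commute.conj_iff m]
        simpa [mul_assoc] using c111
      obtain ⟨h, hh, eh, hcase⟩ := S.triangle rfl Sd hbp hba hga hgb
      have emh : m * h * a * (m * h)⁻¹ = x 11 := by
        rw [show m * h * a * (m * h)⁻¹ = m * (h * a * h⁻¹) * m⁻¹ by group, eh, hb]
        group
      have e11 : via ι d r (m * h) (x 1) = u ∨ via ι d r (m * h) (x 1) = d * u * d := by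
        have e := via_conj S Sd (g := x 1) hh hm0
        rw [hu]
        rcases hcase with hc | hc
        · left; rw [e, via, hc, via]
        · right
          rw [e, via, hc, via]
          have hmd := P.maps m hm0
          calc toX ι d m * (d * M24.lift (toX ι d) r (m⁻¹ * x 1 * m) * d) * (toX ι d m)⁻¹
              = toX ι d m * d * M24.lift (toX ι d) r (m⁻¹ * x 1 * m) * (d * (toX ι d m)⁻¹) := by group
            _ = d * (toX ι d m * M24.lift (toX ι d) r (m⁻¹ * x 1 * m) * (toX ι d m)⁻¹) * d := by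
              rw [hmd.eq, hmd.inv_left.eq.symm]; group
      have c811 : Commute (x 8) (x 11) := x_comm (by decide) (by decide) (by decide +kernel)
      have h8p := nine_perp (g := 8) (by decide)
      have key := via_comm S Sd emh c111 c811 (nine_comm_one (g := 8) (by decide)).symm
      rw [via_fix S Sd (hm0.mul_left hh) emh h8p.2.2.symm c811] at key
      rcases e11 with e | e <;> rw [e] at key
      · exact key
      · have hd8 : d * toX ι d (x 8) * d⁻¹ = toX ι d (x 8) := by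
          rw [← (P.maps (x 8) h8p.2.2.symm).eq, mul_inv_cancel_right]
        have h1 : Commute (d * (d * u * d) * d⁻¹) (d * toX ι d (x 8) * d⁻¹) := (Commute.conj_iff d).2 key
        have hdu' : d * (d * u * d) * d⁻¹ = u := by
          rw [show d * (d * u * d) * d⁻¹ = d * d * u by group, S.dd, one_mul]
        rwa [hdu', hd8] at h1
    · have c9 : Commute (x g) (x 9) := by
        by_cases h9 : g = 9
        · subst h9; exact Commute.refl _
        · exact x_comm (nine_lt hg).1 (by decide)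
            ((show ∀ g ∈ nine, g ≠ 8 → g ≠ 9 → [9, g, 9, g] ∈ numbering.pairs by decide +kernel) g hg h8 h9)
      have key := via_comm S Sd em c19 c9 (nine_comm_one hg).symm
      rwa [← hu, via_fix S Sd hm0 em (nine_perp hg).2.2.symm c9] at key
  have hB : ∀ β ∈ Bsub, Commute u (toX ι d β) := by
    intro β hβ
    suffices h : Commute β (x 0) ∧ Commute u (toX ι d β) from h.2
    induction hβ using Subgroup.closure_induction with
    | mem y hy =>
      obtain ⟨w, hw, rfl⟩ := hy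
      obtain ⟨g, hg, rfl⟩ := (show ∀ w ∈ b80Words, ∃ g ∈ nine, [g] = w by decide +kernel) w hw
      rw [Fi24.wordVal_one (by simp only [eps]; have := (nine_lt hg).1; omega)]
      exact ⟨(nine_perp hg).2.2.symm, hnine g hg⟩
    | one => exact ⟨Commute.one_left _, by rw [P.map_one]; exact Commute.one_right u⟩
    | mul y z _ _ ihy ihz => exact ⟨ihy.1.mul_left ihz.1, by rw [P.mul _ _ ihy.1 ihz.1]; exact ihy.2.mul_right ihz.2⟩
    | inv y _ ih => exact ⟨ih.1.inv_left, by rw [P.map_inv ih.1]; exact ih.2.inv_right⟩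
  -- conjugates by the centraliser of the first two
  have hconj : ∀ s ∈ Lsub, ∀ v ∈ nine, Commute (toX ι d s * u * (toX ι d s)⁻¹) (toX ι d (x v)) := by
    intro s hs v hv
    obtain ⟨s0, s1⟩ := mem_Lsub.1 hs
    obtain ⟨u', hu'⟩ : ∃ u', u' = toX ι d s * u * (toX ι d s)⁻¹ := ⟨_, rfl⟩
    rw [← hu']
    haveI : G₀.Normal := Subgroup.normal_of_index_eq_two S.index
    have hu'out : u' ∉ G₀ := fun h => hout (by
      have := ‹G₀.Normal›.conj_mem _ h (toX ι d s)⁻¹
      rwa [hu', inv_inv, show (toX ι d s)⁻¹ * (toX ι d s * u * (toX ι d s)⁻¹) * toX ι d s = u by group] at this)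
    have hu'sq : u' * u' = 1 := by
      rw [hu', show toX ι d s * u * (toX ι d s)⁻¹ * (toX ι d s * u * (toX ι d s)⁻¹) =
        toX ι d s * (u * u) * (toX ι d s)⁻¹ by group, huu]
      group
    refine hst u u' hout hu'out huu hu'sq hnine (fun v hv w hw => ?_) v hv
    have hin : s⁻¹ * (x v * x w) * s⁻¹⁻¹ ∈ Bsub := conj_pair_mem (inv_mem hs) hv hw
    rw [inv_inv] at hin
    have hvw0 : Commute (x v * x w) (x 0) := (nine_perp hv).2.2.symm.mul_left (nine_perp hw).2.2.symm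
    have key := (Commute.conj_iff (toX ι d s)).2 (hB _ hin)
    rw [← hu', ← P.map_conj s0 ((s0.inv_left.mul_left hvw0).mul_left s0),
      show s * (s⁻¹ * (x v * x w) * s) * s⁻¹ = x v * x w by group,
      P.mul _ _ (nine_perp hv).2.2.symm (nine_perp hw).2.2.symm] at key
    exact key
  refine ⟨m, u, hm0, em, hu, huu, hdu, hout, fun s hs => ?_⟩
  obtain ⟨s0, s1⟩ := mem_Lsub.1 hs
  obtain ⟨v, hv, v', hv', hnc⟩ : ∃ v ∈ nine, ∃ v' ∈ nine, ¬ Commute (x v) (s * x v' * s⁻¹) := by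
    by_contra hcon
    push Not at hcon
    have hall : ∀ β ∈ Bsub, Commute (x 4) (s * β * s⁻¹) := by
      intro β hβ
      induction hβ using Subgroup.closure_induction with
      | mem y hy =>
        obtain ⟨w, hw, rfl⟩ := hy
        obtain ⟨g, hg, rfl⟩ := (show ∀ w ∈ b80Words, ∃ g ∈ nine, [g] = w by decide +kernel) w hw
        rw [Fi24.wordVal_one (by simp only [eps]; have := (nine_lt hg).1; omega)]
        exact hcon 4 (by decide) g hg
      | one => rw [show s * 1 * s⁻¹ = 1 by group]; exact Commute.one_right _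
      | mul y z _ _ ihy ihz =>
        rw [show s * (y * z) * s⁻¹ = s * y * s⁻¹ * (s * z * s⁻¹) by group]; exact ihy.mul_right ihz
      | inv y _ ih => rw [show s * y⁻¹ * s⁻¹ = (s * y * s⁻¹)⁻¹ by group]; exact ih.inv_right
    have hin : s⁻¹ * (x 3 * x 4) * s⁻¹⁻¹ ∈ Bsub := conj_pair_mem (inv_mem hs) (by decide) (by decide)
    have h34 := hall _ hin
    rw [inv_inv, show s * (s⁻¹ * (x 3 * x 4) * s) * s⁻¹ = x 3 * x 4 by group] at h34
    refine braid_not_commute (a := 3) (b := 4) (by decide) (by decide) (by decide) (by decide +kernel) ?_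
    have := h34.mul_right (Commute.refl (x 4))
    rw [mul_assoc, x_mul_self, mul_one] at this
    exact this.symm
  obtain ⟨β, hβ, eβ⟩ := nine_conj hv
  obtain ⟨β', hβ', eβ'⟩ := nine_conj hv'
  obtain ⟨β0, β1⟩ := mem_Lsub.1 (B_le_L hβ)
  obtain ⟨β0', β1'⟩ := mem_Lsub.1 (B_le_L hβ')
  obtain ⟨c', hc'⟩ : ∃ c', c' = s * x v' * s⁻¹ := ⟨_, rfl⟩
  rw [← hc'] at hnc
  have hsval : via ι d r (β * m) (x 1) = u := by
    rw [via_conj S Sd hm0 β0, show β⁻¹ * x 1 * β = x 1 by rw [β1.inv_left.eq, inv_mul_cancel_right],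
      ← hu, ← (hB β hβ).eq, mul_inv_cancel_right]
  have hsval' : via ι d r (s * (β' * m)) (x 1) = toX ι d s * u * (toX ι d s)⁻¹ := by
    rw [via_conj S Sd (β0'.mul_left hm0) s0, show s⁻¹ * x 1 * s = x 1 by rw [s1.inv_left.eq, inv_mul_cancel_right],
      via_conj S Sd hm0 β0', show β'⁻¹ * x 1 * β' = x 1 by rw [β1'.inv_left.eq, inv_mul_cancel_right],
      ← hu, ← (hB β' hβ').eq, mul_inv_cancel_right]
  obtain ⟨u', hu'⟩ : ∃ u', u' = toX ι d s * u * (toX ι d s)⁻¹ := ⟨_, rfl⟩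
  have c'0 : Commute c' (x 0) := hc' ▸ (s0.mul_left (nine_perp hv').2.2.symm).mul_left s0.inv_left
  have c'1 : Commute c' (x 1) := hc' ▸ (s1.mul_left (nine_comm_one hv')).mul_left s1.inv_left
  have c'D : c' ∈ D1 := hc' ▸ K.trans.conj s _ (x_mem (nine_lt hv').1)
  have hu'b : Commute u' (toX ι d (x v)) := hu' ▸ hconj s hs v hv
  have huc : Commute u (toX ι d c') := by
    have key := (Commute.conj_iff (toX ι d s)).2 (hconj s⁻¹ (inv_mem hs) v' hv')
    rw [P.map_inv s0, ← P.map_conj s0 (nine_perp hv').2.2.symm, ← hc', inv_inv,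
      show toX ι d s * ((toX ι d s)⁻¹ * u * toX ι d s) * (toX ι d s)⁻¹ = u by group] at key
    exact key
  have hbr : x v * c' * x v = c' * x v * c' := by
    have := Fischer.braid K.trans (x_mem (nine_lt hv).1) c'D hnc
    rwa [cj_def, cj_def] at this
  have e1 : c' * (β * m) * a * (c' * (β * m))⁻¹ = c' * x v * c' := by
    rw [show c' * (β * m) * a * (c' * (β * m))⁻¹ = c' * (β * (m * a * m⁻¹) * β⁻¹) * c'⁻¹ by group, em, eβ,
      Fischer.inv_eq K.trans c'D]
  have e2 : x v * (s * (β' * m)) * a * (x v * (s * (β' * m)))⁻¹ = c' * x v * c' := by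
    rw [show x v * (s * (β' * m)) * a * (x v * (s * (β' * m)))⁻¹ =
      x v * (s * (β' * (m * a * m⁻¹) * β'⁻¹) * s⁻¹) * (x v)⁻¹ by group, em, eβ', ← hc', x_conj_sq, hbr]
  have hx1e : Commute (x 1) (c' * x v * c') := (c'1.symm.mul_right (nine_comm_one hv).symm).mul_right c'1.symm
  have key := via_indep S Sd (c'0.mul_left (β0.mul_left hm0))
    ((nine_perp hv).2.2.symm.mul_left (s0.mul_left (β0'.mul_left hm0))) e1 e2 hx1e
  rw [via_conj S Sd (β0.mul_left hm0) c'0, via_conj S Sd (s0.mul_left (β0'.mul_left hm0)) (nine_perp hv).2.2.symm,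
    show c'⁻¹ * x 1 * c' = x 1 by rw [c'1.inv_left.eq, inv_mul_cancel_right],
    show (x v)⁻¹ * x 1 * x v = x 1 by rw [(nine_comm_one hv).inv_left.eq, inv_mul_cancel_right],
    hsval, hsval', ← huc.eq, mul_inv_cancel_right, ← hu', ← hu'b.eq, mul_inv_cancel_right, hu'] at key
  exact (eq_mul_inv_iff_mul_eq.1 key)

end Side

end Cfsg.Lib.Fischer.Cent24
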