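import Cfsg.Agent.Lib.Fischer.Cent24.Walk
import Cfsg.Agent.Lib.Fischer.Relations.TwentyFour.QuadCount
import Cfsg.Agent.Lib.Invol.Embedded

/-!
# The presented Fi24 is the whole group
-/

set_option autoImplicit false
set_option maxRecDepth 100000

namespace Cfsg.Lib.Fischer.Cent24

open Cfsg Cfsg.Lib.CosetEnum Cfsg.Lib.BigPerm Cfsg.Lib.BigPerm.Fi24 Cfsg.Lib.BigPerm.Fi24Cert
open Cfsg.Lib.Fischer Cfsg.Lib.Fischer.Relations Cfsg.Lib.Fischer.M24

local notation "G1" => Cfsg.Spor.Fi24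
local notation "D1" => Cfsg.Lib.BigPerm.Fi24.D
local notation "x" => Cfsg.Lib.BigPerm.Fi24.x

attribute [local instance] fin24

theorem prod_mem_D24_iff : ∀ l : List G1, (∀ v ∈ l, v ∈ D1) → (l.prod ∈ D24 ↔ Even l.length)
  | [], _ => by simp
  | v :: l, h => by
    have ih := prod_mem_D24_iff l fun w hw => h w (List.mem_cons_of_mem _ hw)
    have hv := mem_out (h v (by simp))
    rw [List.prod_cons, Subgroup.mul_mem_iff_of_index_two Cfsg.Agent.S1691.result, ih, List.length_cons,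
      Nat.even_add_one]
    tauto

theorem thirteen_dvd_cent23 :
    13 ∣ Nat.card ↥(Subgroup.centralizer ({Cent23.delta23} : Set Cfsg.Spor.Fi23)) := by
  have h23 := Cfsg.Agent.S1697.result.2
  have h1 := Subgroup.card_mul_index (Subgroup.centralizer ({Cent23.delta23} : Set Cfsg.Spor.Fi23))
  have h2 : (Subgroup.centralizer ({Cent23.delta23} : Set Cfsg.Spor.Fi23)).index = 31671 := by
    haveI := Cent23.fi23_facts.1
    rw [← Cent23.class23.2, Nat.card_coe_set_eq,
      show conjugatesOf Cent23.delta23 = MulAction.orbit (ConjAct Cfsg.Spor.Fi23) Cent23.delta23 by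
        ext u
        rw [ConjAct.mem_orbit_conjAct]
        exact ⟨IsConj.symm, IsConj.symm⟩,
      ← MulAction.index_stabilizer, Subgroup.centralizer_eq_comap_stabilizer]
    exact Subgroup.index_comap_of_surjective _ ConjAct.toConjAct.surjective
  rw [h2, h23] at h1
  omega

namespace Side

variable {X : Type*} [Group X] [Finite X] {G₀ : Subgroup X} {d τ o τ₂ : X} {ι : Cfsg.Spor.Fi23 →* X}
variable (S : Side G₀ d τ o τ₂ ι)
include S

set_option maxHeartbeats 1000000 in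
/-- The group is the presented Fi24. -/
theorem exists_equiv {z : X} (hzG : z ∈ G₀) (hzd : Commute z d) (hz : orderOf z = 2)
    (hcard : Nat.card ↥(Subgroup.centralizer ({z} : Set X)) = 2 ^ 22 * 3 ^ 7 * 5 * 7)
    (hrange : ∀ y, y ∈ G₀ → Commute y d → y ∈ ι.range)
    (htwo : ∀ c, Commute c τ → c * d * c⁻¹ = d ∨ c * d * c⁻¹ = d * τ) :
    Nonempty (G1 ≃* X) := by
  classical
  obtain ⟨d0, K⟩ := exists_data
  obtain ⟨a, r, Sd, hat⟩ := S.exists_seed
  obtain ⟨Φ, hinj, hH, hpar⟩ := exists_hom S Sd (steady_of_two S Sd hat htwo)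
  have P := S.twin
  have hd : Φ (x 0) = d := by rw [hH _ l_mem, S.toX_x0]
  have ha : Φ a = d * τ := by rw [hH _ (perp_H Sd.mem), hat]
  have ht : Φ (x 0 * a) = τ := by rw [map_mul, hd, ha, ← mul_assoc, S.dd, one_mul]
  have hτG : τ ∈ G₀ := S.t_eq ▸ S.mem _
  have hτ : orderOf τ = 2 := orderOf_eq_prime (by rw [pow_two, S.tt]) S.t_ne
  have hCd : ∀ c, Commute c d → c ∈ Φ.range := fun c hc => by
    by_cases hcG : c ∈ G₀
    · obtain ⟨u, rfl⟩ := hrange c hcG hc
      obtain ⟨g, hg, e⟩ := S.lift_iota u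
      exact ⟨g, by rw [hH g (mem_H_iff.2 hg), e]⟩
    · obtain ⟨u, hu⟩ := hrange (d * c) ((Subgroup.mul_mem_iff_of_index_two S.index).2 (iff_of_false S.d_out hcG))
        ((Commute.refl d).mul_left hc)
      obtain ⟨g, hg, e⟩ := S.lift_d_iota u
      exact ⟨g, by rw [hH g (mem_H_iff.2 hg), e, hu, ← mul_assoc, S.dd, one_mul]⟩
  -- the centraliser of the transposition
  have hswap : Φ r.1 * d * (Φ r.1)⁻¹ = d * τ ∧ Commute (Φ r.1) τ := by
    have e1 : Φ r.1 * d * (Φ r.1)⁻¹ = d * τ := by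
      rw [← ha, ← hd, ← map_inv, ← map_mul, ← map_mul, Sd.inv₁, Sd.move₁]
    refine ⟨e1, ?_⟩
    have hc : Commute r.1 (x 0 * a) := by
      have := conj_self_mul (a := x 0 * a) (b := a * x 0) Sd.sq₁ (by
        rw [show r.1 * (x 0 * a) * r.1 = r.1 * x 0 * r.1 * (r.1 * a * r.1) by
          calc r.1 * (x 0 * a) * r.1 = r.1 * x 0 * (r.1 * r.1) * a * r.1 := by rw [Sd.sq₁]; group
            _ = _ := by group, Sd.move₁, Sd.back₁])
      rw [← Sd.mem.2.2.eq] at this
      refine mul_inv_eq_iff_eq_mul.1 ?_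
      rwa [Sd.inv₁]
    rw [← ht]
    exact hc.map Φ
  have hCt : ∀ c, Commute c τ → c ∈ Φ.range := fun c hc => by
    rcases htwo c hc with e | e
    · exact hCd c (mul_inv_eq_iff_eq_mul.1 e)
    · have h1 : (Φ r.1)⁻¹ * c ∈ Φ.range := hCd _ (mul_inv_eq_iff_eq_mul.1 (by
        rw [show (Φ r.1)⁻¹ * c * d * ((Φ r.1)⁻¹ * c)⁻¹ = (Φ r.1)⁻¹ * (c * d * c⁻¹) * Φ r.1 by group, e, ← hswap.1]
        group))
      simpa using mul_mem (⟨r.1, rfl⟩ : Φ r.1 ∈ Φ.range) h1
  -- the central involution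
  have h13 : 13 ∣ Nat.card ↥(Subgroup.centralizer ({τ} : Set X)) := by
    refine thirteen_dvd_cent23.trans ?_
    rw [← Subgroup.card_map_of_injective (f := ι) S.inj]
    refine Subgroup.card_dvd_of_le ?_
    rintro _ ⟨u, hu, rfl⟩
    rw [Subgroup.mem_centralizer_singleton_iff, ← S.t_eq]
    exact ((show Commute u Cent23.delta23 from Subgroup.mem_centralizer_singleton_iff.1 hu).map ι).eq
  have hne : ¬ IsConj z τ := by
    intro hc
    obtain ⟨g, hg⟩ := isConj_iff.1 hc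
    have : Nat.card ↥(Subgroup.centralizer ({z} : Set X)) = Nat.card ↥(Subgroup.centralizer ({τ} : Set X)) := by
      rw [← hg, ← show (fun u => g * u * g⁻¹) '' ({z} : Set X) = {g * z * g⁻¹} from Set.image_singleton,
        ← centralizer_map]
      exact (Subgroup.card_map_of_injective (f := (MulAut.conj g).toMonoidHom) (MulAut.conj g).injective).symm
    rw [← this, hcard] at h13
    norm_num at h13
  have ht2 : IsProd D1 2 (x 0 * a) := ⟨[x 0, a], by simp [Sd.mem.2.1.symm], rfl,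
    by simp [x_mem (g := 0) (by decide), Sd.mem.1], by
      simp only [List.mem_cons, List.not_mem_nil, or_false]
      rintro p (rfl | rfl) q (rfl | rfl)
      exacts [Commute.refl _, Sd.mem.2.2, Sd.mem.2.2.symm, Commute.refl _], by simp⟩
  have hclass : ∀ v : G1, v * v = 1 → v ≠ 1 → v ∈ D24 → IsProd D1 2 v ∨ IsProd D1 4 v := by
    intro v hv hv1 hvD
    obtain ⟨n, hn, hp⟩ := K.isProd_of_sq hv
    obtain ⟨l, -, hl, hlD, -, e⟩ := id hp
    have he : Even n := by rw [← hl, ← prod_mem_D24_iff l hlD, e]; exact hvD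
    have hn0 : n ≠ 0 := fun h => hv1 (by rw [← e, List.length_eq_zero_iff.1 (hl.trans h)]; rfl)
    obtain ⟨n', rfl⟩ := he
    have hp' : IsProd D1 (n' + n') v := hp
    rcases (show n' = 1 ∨ n' = 2 by omega) with rfl | rfl
    exacts [Or.inl hp', Or.inr hp']
  obtain ⟨ζ, hζ⟩ : z ∈ Φ.range := hCd z hzd
  have hζ2 : ζ * ζ = 1 := hinj (by rw [map_mul, hζ, map_one, ← pow_two, ← hz, pow_orderOf_eq_one])
  have hζ4 : IsProd D1 4 ζ := by
    refine (hclass ζ hζ2 (fun e => ?_) ((hpar ζ).1 (hζ ▸ hzG))).resolve_left fun h => hne ?_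
    · rw [e, map_one] at hζ; rw [← hζ, orderOf_one] at hz; omega
    · rw [← hζ, ← ht]
      exact MonoidHom.map_isConj Φ (K.isConj_prod (by norm_num) (by norm_num) h ht2)
  have hCz : ∀ c, Commute c z → c ∈ Φ.range := by
    have hle : (Subgroup.centralizer ({ζ} : Set G1)).map Φ ≤ Subgroup.centralizer ({z} : Set X) := by
      rintro _ ⟨u, hu, rfl⟩
      rw [Subgroup.mem_centralizer_singleton_iff, ← hζ]
      exact ((show Commute u ζ from Subgroup.mem_centralizer_singleton_iff.1 hu).map Φ).eq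
    have hge : Nat.card ↥(Subgroup.centralizer ({z} : Set X)) ≤
        Nat.card ↥((Subgroup.centralizer ({ζ} : Set G1)).map Φ) := by
      rw [Subgroup.card_map_of_injective hinj, K.card_prod_centralizer hζ4, hcard]
    intro c hc
    have := Subgroup.eq_of_le_of_card_ge hle hge
    obtain ⟨u, -, rfl⟩ : c ∈ (Subgroup.centralizer ({ζ} : Set G1)).map Φ :=
      this.symm ▸ Subgroup.mem_centralizer_singleton_iff.2 hc
    exact ⟨u, rfl⟩
  -- strong embedding
  have hrep : ∀ h ∈ Φ.range, h ∈ G₀ → orderOf h = 2 →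
      ∃ w, (w = τ ∨ w = z) ∧ ∃ g ∈ Φ.range, g * w * g⁻¹ = h := by
    rintro _ ⟨v, rfl⟩ hG h2
    have hv : v * v = 1 := hinj (by rw [map_mul, map_one, ← pow_two, ← h2, pow_orderOf_eq_one])
    rcases hclass v hv (fun e => by rw [e, map_one, orderOf_one] at h2; omega) ((hpar v).1 hG) with h | h
    · obtain ⟨g, hg⟩ := isConj_iff.1 (K.isConj_prod (by norm_num) (by norm_num) ht2 h)
      exact ⟨τ, Or.inl rfl, Φ g, ⟨g, rfl⟩, by rw [← ht, ← hg]; simp only [map_mul, map_inv]⟩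
    · obtain ⟨g, hg⟩ := isConj_iff.1 (K.isConj_prod (by norm_num) le_rfl hζ4 h)
      exact ⟨z, Or.inr rfl, Φ g, ⟨g, rfl⟩, by rw [← hζ, ← hg, map_mul, map_mul, map_inv]⟩
  obtain ⟨H, hHdef⟩ : ∃ H : Subgroup ↥G₀, H = Φ.range.subgroupOf G₀ := ⟨_, rfl⟩
  have htop : H = ⊤ := by
    by_contra hH'
    have hmem : ∀ h : ↥G₀, h ∈ H ↔ (h : X) ∈ Φ.range := fun h => by rw [hHdef, Subgroup.mem_subgroupOf]
    have hzH : (⟨z, hzG⟩ : ↥G₀) ∈ H := (hmem _).2 ⟨ζ, hζ⟩
    have heven : Even (Nat.card H) := by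
      rw [even_iff_two_dvd, ← hz, show orderOf z = orderOf (⟨z, hzG⟩ : ↥G₀) from Subgroup.orderOf_coe ⟨z, hzG⟩]
      exact Subgroup.orderOf_dvd_natCard _ hzH
    have hse : IsStronglyEmbedded H := (Lib.Invol.stronglyEmbedded_iff hH' heven).2 fun h hh hh2 k hk => by
      rw [hmem] at hh hk ⊢
      have hk2 : orderOf ((k * h * k⁻¹ : ↥G₀) : X) = 2 := by rw [Subgroup.orderOf_coe, Lib.Invol.orderOf_conj_eq, hh2]
      obtain ⟨w, hw, g, hg, eg⟩ := hrep _ hh h.2 (by rw [Subgroup.orderOf_coe, hh2])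
      obtain ⟨w', hw', g', hg', eg'⟩ := hrep _ hk (k * h * k⁻¹).2 hk2
      push_cast at eg'
      rw [← eg] at eg'
      have hww : IsConj w w' := isConj_iff.2 ⟨g'⁻¹ * (k : X) * g, by
        rw [show g'⁻¹ * (k : X) * g * w * (g'⁻¹ * (k : X) * g)⁻¹ = g'⁻¹ * ((k : X) * (g * w * g⁻¹) * (k : X)⁻¹) * g' by
          group, ← eg']
        group⟩
      have e : w = w' := by
        rcases hw with rfl | rfl <;> rcases hw' with rfl | rfl
        exacts [rfl, absurd hww.symm hne, absurd hww hne, rfl]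
      subst e
      have hc : Commute (g'⁻¹ * (k : X) * g) w := mul_inv_eq_iff_eq_mul.1 (by
        rw [show g'⁻¹ * (k : X) * g * w * (g'⁻¹ * (k : X) * g)⁻¹ = g'⁻¹ * ((k : X) * (g * w * g⁻¹) * (k : X)⁻¹) * g' by
          group, ← eg']
        group)
      have h1 : g'⁻¹ * (k : X) * g ∈ Φ.range := by
        rcases hw with rfl | rfl
        exacts [hCt _ hc, hCz _ hc]
      have := mul_mem (mul_mem hg' h1) (inv_mem hg)
      rwa [show g' * (g'⁻¹ * (k : X) * g) * g⁻¹ = k by group] at this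
    have hconj := Lib.Invol.se_isConj hse (a := ⟨z, hzG⟩) (b := ⟨τ, hτG⟩)
      (by rw [← Subgroup.orderOf_coe]; exact hz) (by rw [← Subgroup.orderOf_coe]; exact hτ)
    exact hne (MonoidHom.map_isConj G₀.subtype hconj)
  refine ⟨MulEquiv.ofBijective Φ ⟨hinj, fun c => ?_⟩⟩
  rw [hHdef, Subgroup.subgroupOf_eq_top] at htop
  by_cases hc : c ∈ G₀
  · exact MonoidHom.mem_range.1 (htop hc)
  · have h1 : c * d ∈ G₀ := (Subgroup.mul_mem_iff_of_index_two S.index).2 (iff_of_false hc S.d_out)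
    obtain ⟨u, hu⟩ := MonoidHom.mem_range.1 (htop h1)
    exact ⟨u * x 0, by rw [map_mul, hu, hd, mul_assoc, S.dd, mul_one]⟩

end Side

end Cfsg.Lib.Fischer.Cent24
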