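import Cfsg.Agent.Lib.FischerLarge.Fi22Part.OuterMain
import Cfsg.Agent.Lib.Fischer.Cent23.Type23
import Cfsg.Agent.Lib.Fischer.Cent24.Whole

/-!
# The outer involution from the centraliser of the central involution
-/

set_option autoImplicit false
set_option maxRecDepth 100000

namespace Cfsg.Lib.Fischer.Cent24

open Cfsg Cfsg.Lib.SUSixU43 Cfsg.Lib.FischerLarge

universe u

section

variable {G : Type u} [Group G] [Finite G] {z : G} {Q : Subgroup G} {D : Coord z Q} {t t2 : G}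

/-- The half, with an explicit element moving the second involution. -/
theorem exists_half_moved (h : D.Duo t t2) {g₀ s₀ : G} (hw : D.Wit g₀ s₀) :
    ∃ X1 o, h.IsHalf X1 o ∧ ∃ g ∈ X1, g * t2 * g⁻¹ = z * (t2 * t) := by
  obtain ⟨s, hs⟩ := D.exists_mate h.tQ h.vA
  obtain ⟨X1, hle, hconj, hidx, hpair, hsout⟩ := h.exists_half hs (h.cover hw).1.1
  obtain ⟨o, hoz, hot, ho⟩ := h.exists_exchange hw hs
  have hsX : s ∈ Subgroup.centralizer ({t} : Set G) := mem_cent_of_commute (hs.commTS h.tQ).symm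
  have hswap := fun {y : G} (hy : y ∈ X1) => h.swap_out hw hle hidx hsX hsout hpair hy
  have hoX := mem_cent_of_commute hot
  have hoo : o ∉ X1 := fun hh => hswap hh ho
  have hmv : o * s * t2 * (o * s)⁻¹ = z * (t2 * t) := by
    rw [show o * s * t2 * (o * s)⁻¹ = o * (s * t2 * s⁻¹) * o⁻¹ by group, hs.moves h,
      show o * (z * t2) * o⁻¹ = o * z * o⁻¹ * (o * t2 * o⁻¹) by group, hoz.eq, mul_inv_cancel_right, ho]
  have hm := hidx o hoX s hsX hoo hsout
  refine ⟨X1, o, ⟨hle, hconj, hidx, hpair, hoX, hoo, ho, fun y hy e => ?_, o * s, hm, Or.inr hmv⟩, o * s, hm, hmv⟩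
  exact mem_pairCent.2 ⟨commute_of_mem_cent (hle hy),
    mul_inv_eq_iff_eq_mul.1 (e.resolve_right (hswap hy))⟩

end

variable {X : Type u} [Group X] [Finite X] {G₀ : Subgroup X} {z : ↥G₀} {Q : Subgroup ↥G₀}

set_option maxHeartbeats 1600000 in
/-- The data at the outer involution. -/
theorem exists_side (O : Over G₀ z Q) (D : Coord z Q) {g₀ s₀ : ↥G₀} (hw : D.Wit g₀ s₀) :
    ∃ (d τ o τ₂ : X) (ι : Cfsg.Spor.Fi23 →* X), Side G₀ d τ o τ₂ ι ∧ Commute (z : X) d ∧
      (∀ y, y ∈ G₀ → Commute y d → y ∈ ι.range) ∧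
      ∀ c, Commute c τ → c * d * c⁻¹ = d ∨ c * d * c⁻¹ = d * τ := by
  classical
  obtain ⟨v, hv⟩ := Set.nonempty_of_ncard_ne_zero (s := D.A) (by rw [D.orb.cardA]; norm_num)
  obtain ⟨t, htQ, htv⟩ := D.cl_surj v
  obtain ⟨t2, h⟩ := D.exists_duo htQ (htv ▸ hv)
  have h2 : D.Duo t2 (t2 * t) := ⟨h.t2Q, mul_mem h.t2Q h.tQ, h.A2, by
    rw [h.cl_mul, h.cl2, smul_smul, ← pow_two, tau_om.2.1]⟩
  obtain ⟨X1, o, H, g1, hg1, e1⟩ := exists_half_moved h hw
  obtain ⟨X2, o2, H2, g2, hg2, e2⟩ := exists_half_moved h2 hw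
  obtain ⟨d, hd, hdd, hdk, hdk'⟩ := h.exists_outer_invol O hw h2 H H2
  haveI : G₀.Normal := Subgroup.normal_of_index_eq_two O.index
  obtain ⟨tY, htY, ht'2, hqs, hnwc, hn, ⟨E, hcls, h22⟩, -⟩ := h.outer_data_of O hw h2 H H2 hd hdk hdk'
  obtain ⟨y, HY⟩ := Cent23.hyp_of ht'2 hqs (QuotientGroup.mk' _) (QuotientGroup.mk'_surjective _)
    (QuotientGroup.ker_mk' _) hcls h22 hnwc
  obtain ⟨e, he⟩ := Cent23.exists_iso HY
  obtain ⟨ι, hι⟩ : ∃ ι : Cfsg.Spor.Fi23 →* X,
      ι = (G₀ ⊓ Subgroup.centralizer ({d} : Set X)).subtype.comp e.toMonoidHom := ⟨_, rfl⟩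
  have hιv : ∀ u, ι u = ((e u : ↥(G₀ ⊓ Subgroup.centralizer ({d} : Set X))) : X) := fun u => by rw [hι]; rfl
  have hYm : ∀ {w : X}, w ∈ G₀ ⊓ Subgroup.centralizer ({d} : Set X) ↔ w ∈ G₀ ∧ Commute w d := by
    intro w
    rw [Subgroup.mem_inf, Subgroup.mem_centralizer_singleton_iff]
    rfl
  have hcoe : ∀ {a b : ↥G₀}, Commute a b → Commute (a : X) (b : X) := fun hab => congrArg Subtype.val hab.eq
  have hoX : Commute o t := commute_of_mem_cent H.o_mem
  have hot : Commute (o : X) (t : X) := hcoe hoX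
  have hdt : Commute d (t : X) := hdk t (h.t_mem_half H)
  have hzX : z ∈ X1 := H.pair_le (mem_pairCent.2 ⟨h.commTz.symm, h.comm2z.symm⟩)
  have htt : (t : X) * (t : X) = 1 := congrArg Subtype.val h.sqT
  -- the exchanging element moves the outer involution
  have hod : (o : X) * d * (o : X)⁻¹ = d * (t : X) := by
    obtain ⟨c, hc⟩ : ∃ c : ↥G₀, (c : X) = d * ((o : X) * d * (o : X)⁻¹) := by
      refine ⟨⟨_, ?_⟩, rfl⟩
      rw [Subgroup.mul_mem_iff_of_index_two O.index]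
      refine iff_of_false hd fun hh => hd ?_
      have := ‹G₀.Normal›.conj_mem _ hh (o : X)⁻¹
      rwa [inv_inv, show (o : X)⁻¹ * ((o : X) * d * (o : X)⁻¹) * o = d by group] at this
    have hk : ∀ k ∈ X1, Commute ((o : X) * d * (o : X)⁻¹) (k : X) := fun k hk => by
      have hk' : o⁻¹ * k * o ∈ X1 := by simpa using H.conj o⁻¹ (inv_mem H.o_mem) k hk
      have := (Commute.conj_iff (o : X)).2 (hdk _ hk')
      push_cast at this
      rwa [show (o : X) * ((o : X)⁻¹ * k * o) * (o : X)⁻¹ = k by group] at this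
    rcases h.cent_half H hw (c := c) (Subtype.ext (by
      push_cast
      rw [hc]
      exact ((hdk t (h.t_mem_half H)).mul_left (hk t (h.t_mem_half H))).eq)) (fun k hk' => Or.inl
        (mul_inv_eq_iff_eq_mul.2 (Subtype.ext (by push_cast; rw [hc]; exact ((hdk k hk').mul_left (hk k hk')).eq)))) with
      e0 | e0
    · exfalso
      rw [e0, OneMemClass.coe_one, ← mul_assoc, eq_comm, mul_inv_eq_one] at hc
      have hdo : Commute d (o : X) := by
        show d * o = o * d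
        calc d * (o : X) = d * (d * ((o : X) * d)) := by rw [hc]
          _ = d * d * o * d := by group
          _ = o * d := by rw [hdd, one_mul]
      refine O.not_cent_all D hw h hd fun w hw' => ?_
      by_cases hw1 : w ∈ X1
      · exact hdk w hw1
      · have h1 := (hdk _ (H.index w (mem_cent_of_commute hw') o⁻¹ (inv_mem H.o_mem) hw1
          fun hh => H.o_out (inv_mem_iff.1 hh))).mul_right hdo
        push_cast at h1
        rwa [inv_mul_cancel_right] at h1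
    · rw [e0] at hc
      rw [hc, ← mul_assoc, hdd, one_mul]
  -- two values
  have hin : ∀ w : ↥G₀, Commute w t → (w : X) * d * (w : X)⁻¹ = d ∨ (w : X) * d * (w : X)⁻¹ = d * t := by
    intro w hwt
    by_cases hw1 : w ∈ X1
    · exact Or.inl (by rw [(hdk w hw1).eq.symm, mul_inv_cancel_right])
    · right
      have hm := H.index w (mem_cent_of_commute hwt) o⁻¹ (inv_mem H.o_mem) hw1 fun hh => H.o_out (inv_mem_iff.1 hh)
      have c1 := hdk _ hm
      have c2 : Commute ((w : X) * (o : X)⁻¹) (t : X) := (hcoe hwt).mul_left hot.inv_left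
      push_cast at c1
      rw [show (w : X) * d * (w : X)⁻¹ = (w : X) * (o : X)⁻¹ * ((o : X) * d * (o : X)⁻¹) * ((w : X) * (o : X)⁻¹)⁻¹ by
        group, hod, ((c1.symm.mul_right c2).eq), mul_inv_cancel_right]
  -- the two involutions are conjugate
  have hg2t : g2 * t * g2⁻¹ = z * (t2 * t) := by
    have hf : g2 * t2 * g2⁻¹ = t2 := by
      rw [(commute_of_mem_cent (H2.le hg2)).eq, mul_inv_cancel_right]
    calc g2 * t * g2⁻¹ = g2 * t2 * g2⁻¹ * (g2 * (t2 * t) * g2⁻¹) := by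
          rw [show g2 * t2 * g2⁻¹ * (g2 * (t2 * t) * g2⁻¹) = g2 * (t2 * t2 * t) * g2⁻¹ by group, h.sq2, one_mul]
      _ = t2 * (z * (t2 * t * t2)) := by rw [hf, e2]
      _ = z * (t2 * t) := by
          rw [mul_assoc t2 t t2, h.comm.eq, ← mul_assoc t2 t2 t, h.sq2, one_mul, ← mul_assoc, h.comm2z.eq, mul_assoc]
  have hgY : ((g1⁻¹ * g2 : ↥G₀) : X) ∈ G₀ ⊓ Subgroup.centralizer ({d} : Set X) := by
    refine hYm.2 ⟨(g1⁻¹ * g2 : ↥G₀).2, ?_⟩
    push_cast
    exact (hdk g1 hg1).symm.inv_left.mul_left (hdk' g2 hg2).symm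
  obtain ⟨gY, hgYv⟩ : ∃ gY : ↥(G₀ ⊓ Subgroup.centralizer ({d} : Set X)), (gY : X) = ((g1⁻¹ * g2 : ↥G₀) : X) :=
    ⟨⟨_, hgY⟩, rfl⟩
  have hconj : g1⁻¹ * g2 * t * (g1⁻¹ * g2)⁻¹ = t2 := by
    rw [show g1⁻¹ * g2 * t * (g1⁻¹ * g2)⁻¹ = g1⁻¹ * (g2 * t * g2⁻¹) * g1 by group, hg2t, ← e1]
    group
  have hinjι : Function.Injective ι := by
    rw [hι]
    exact (Subgroup.subtype_injective _).comp e.injective
  have hrange : ∀ w, w ∈ G₀ → Commute w d → w ∈ ι.range := fun w h1 h2 =>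
    ⟨e.symm ⟨w, hYm.2 ⟨h1, h2⟩⟩, by rw [hιv, e.apply_symm_apply]⟩
  have hmemd : ∀ u, ι u ∈ G₀ ∧ Commute (ι u) d := fun u => by rw [hιv]; exact hYm.1 (e u).2
  have hιδ : ι Cent23.delta23 = (t : X) := by rw [hιv, he, htY]
  have hdto : (o : X)⁻¹ * d * (o : X) = d * t := by
    have h1 : (o : X) * (d * t) * (o : X)⁻¹ = d := by
      rw [show (o : X) * (d * t) * (o : X)⁻¹ = (o : X) * d * (o : X)⁻¹ * ((o : X) * t * (o : X)⁻¹) by group, hod,
        hot.eq, mul_inv_cancel_right, mul_assoc, htt, mul_one]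
    conv_lhs => rw [← h1]
    group
  refine ⟨d, (t : X), (o : X), (t2 : X), ι, ⟨O.index, hdd, hd, hinjι, fun u => (hmemd u).1, fun u => (hmemd u).2,
    ?_, o.2, hot, hod, fun u hu => ?_, ?_, ?_, ⟨e.symm (gY * tY * gY⁻¹), ?_, ?_⟩, hcoe h.comm.symm, ?_,
    fun k hk hkd _ _ => hrange k hk hkd, ?_⟩, (hdk z hzX).symm, hrange, fun c hc => ?_⟩
  · rw [hιv, he, htY]
  · obtain ⟨v, hv⟩ := hrange ((o : X) * ι u * (o : X)⁻¹) (mul_mem (mul_mem o.2 (hmemd u).1) (inv_mem o.2)) (by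
      rw [show d = (o : X) * ((o : X)⁻¹ * d * (o : X)) * (o : X)⁻¹ by group, Commute.conj_iff, hdto]
      exact (hmemd u).2.mul_right (hιδ ▸ hu.map ι))
    exact ⟨v, hv.symm⟩
  · obtain ⟨v, hv⟩ := hrange ((o : X) * o) (mul_mem o.2 o.2) (mul_inv_eq_iff_eq_mul.1 (by
      rw [show (o : X) * o * d * ((o : X) * o)⁻¹ = (o : X) * ((o : X) * d * (o : X)⁻¹) * (o : X)⁻¹ by group, hod,
        show (o : X) * (d * t) * (o : X)⁻¹ = (o : X) * d * (o : X)⁻¹ * ((o : X) * t * (o : X)⁻¹) by group, hod,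
        hot.eq, mul_inv_cancel_right, mul_assoc, htt, mul_one]))
    exact ⟨v, hv⟩
  · exact congrArg Subtype.val H.o_move
  · refine isConj_iff.2 ⟨e.symm gY, e.injective ?_⟩
    rw [map_mul, map_mul, map_inv, e.apply_symm_apply, e.apply_symm_apply, he]
  · rw [hιv, e.apply_symm_apply]
    push_cast
    rw [hgYv, htY]
    exact_mod_cast congrArg Subtype.val hconj
  · exact fun e' => h.four_distinct.2.2.2.1 (Subtype.ext e'.symm)
  · have hmap : (Subgroup.centralizer ({tY} : Set ↥(G₀ ⊓ Subgroup.centralizer ({d} : Set X)))).map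
        (e.symm : ↥(G₀ ⊓ Subgroup.centralizer ({d} : Set X)) →* Cfsg.Spor.Fi23) =
        Subgroup.centralizer ({Cent23.delta23} : Set Cfsg.Spor.Fi23) := by
      ext w
      rw [Subgroup.mem_map, Subgroup.mem_centralizer_singleton_iff]
      constructor
      · rintro ⟨w', hw', rfl⟩
        rw [Subgroup.mem_centralizer_singleton_iff] at hw'
        refine e.injective ?_
        simp only [MonoidHom.coe_coe, map_mul, MulEquiv.apply_symm_apply, he]
        exact hw'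
      · intro hw'
        refine ⟨e w, ?_, e.symm_apply_apply w⟩
        rw [Subgroup.mem_centralizer_singleton_iff, ← he, ← map_mul, ← map_mul, hw']
    have hq' := Lib.Core.quasisimple_congr hqs
      (((e.symm.subgroupMap (Subgroup.centralizer ({tY} : Set ↥(G₀ ⊓ Subgroup.centralizer ({d} : Set X)))))).trans
        (MulEquiv.subgroupCongr hmap))
    exact hq'.1.commutator_eq_top
  · by_cases hcG : c ∈ G₀
    · exact hin ⟨c, hcG⟩ (Subtype.ext hc.eq)
    · have hm : c * d ∈ G₀ := (Subgroup.mul_mem_iff_of_index_two O.index).2 (iff_of_false hcG hd)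
      have := hin ⟨c * d, hm⟩ (Subtype.ext (hc.mul_left hdt).eq)
      rwa [show ((⟨c * d, hm⟩ : ↥G₀) : X) * d * ((⟨c * d, hm⟩ : ↥G₀) : X)⁻¹ = c * d * c⁻¹ by
        show c * d * d * (c * d)⁻¹ = c * d * c⁻¹
        group] at this

end Cfsg.Lib.Fischer.Cent24
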