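import Cfsg.Agent.Lib.Fischer.M24Exist.PresentedFi24
import Cfsg.Agent.Lib.Fischer.TypeM24.Triangle
import Cfsg.Agent.Lib.BigPerm.Fi24.Main

/-!
# The presented Fi24: generators, the centraliser of the first two, and the class
-/

set_option autoImplicit false
set_option maxRecDepth 100000

namespace Cfsg.Lib.Fischer.Cent24

open Cfsg Cfsg.Lib.CosetEnum Cfsg.Lib.BigPerm Cfsg.Lib.BigPerm.Fi24 Cfsg.Lib.BigPerm.Fi24Cert
open Cfsg.Lib.Fischer Cfsg.Lib.Fischer.Relations

local notation "G1" => Cfsg.Spor.Fi24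
local notation "D1" => Cfsg.Lib.BigPerm.Fi24.D
local notation "x" => Cfsg.Lib.BigPerm.Fi24.x

theorem fin24 : Finite G1 := finite_Fi24

attribute [local instance] fin24

theorem exists_data : ∃ d : G1, M24Data D1 d := by
  obtain ⟨h1, h2, h3⟩ := M24Exist.fi24_type
  exact m24_data (trans_of_class h1) h2 h3

theorem x_mem {g : ℕ} (hg : g < 12) : x g ∈ D1 := isConj_gen g hg

/-- A point moved differently by two generators. -/
noncomputable def sepOK (a b : ℕ) : Bool :=
  (List.range 64).any fun p => Nat.beq (Nat.land (runW Fi24Net.nets [a] (point p)) (below 306936))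
    (Nat.land (runW Fi24Net.nets [b] (point p)) (below 306936)) == false

theorem sep_all : ∀ a < 12, ∀ b < 12, a < b → sepOK a b = true := by decide +kernel

theorem x_ne {a b : ℕ} (ha : a < 12) (hb : b < 12) (h : a ≠ b) : x a ≠ x b := by
  suffices key : ∀ {a b : ℕ}, a < 12 → b < 12 → a < b → x a ≠ x b from
    (Nat.lt_or_gt_of_ne h).elim (key ha hb) fun hba => (key hb ha hba).symm
  intro a b ha hb hab e
  obtain ⟨p, -, hne⟩ := List.any_eq_true.1 (sep_all a ha b hb hab)
  rw [beq_iff_eq] at hne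
  have h1 : ∀ c < 12, (wordVal (bperm Fi24Net.nets 306936) [c] : Equiv.Perm (Fin 306936)) '' pts 306936 (point p) =
      pts 306936 (runW Fi24Net.nets [c] (point p)) := fun c hc =>
    (pts_runW (n := 306936) lens_ok range_ok (k := 15) (by decide) (w := [c])
      (fun g hg => by rw [List.mem_singleton] at hg; omega) (point p)).symm
  refine pts_ne hne ?_
  rw [← h1 a ha, ← h1 b hb, ← f_word (by simpa using ha), ← f_word (by simpa using hb),
    Fi24.wordVal_one (by simp only [eps]; omega), Fi24.wordVal_one (by simp only [eps]; omega), e]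

/-- Commuting generators. -/
theorem x_comm {a b : ℕ} (ha : a < 12) (hb : b < 12) (h : [b, a, b, a] ∈ numbering.pairs) :
    Commute (x a) (x b) := commute_gens ha hb h

theorem mem_H_iff {g : G1} : g ∈ Hsub ↔ Commute g (x 0) := by
  rw [← centralizer_x0, Subgroup.mem_centralizer_singleton_iff]
  exact Iff.rfl

theorem x_perp {g : ℕ} (hg : g < 12) (h0 : g ≠ 0) (h1 : g ≠ 1) : x g ∈ perp D1 (x 0) :=
  ⟨x_mem hg, x_ne hg (by decide) h0, (mem_H_iff.1 (x_mem_Hsub hg h1)).symm⟩

theorem perp_nine {g : ℕ} (h1 : 2 ≤ g) (hg : g < 12) (h9 : g ≠ 9) (h8 : g ≠ 8) : x g ∈ perp D1 (x 9) :=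
  ⟨x_mem hg, x_ne hg (by decide) h9, x_comm (by decide) hg
    ((show ∀ g < 12, g ≠ 9 → g ≠ 8 → [g, 9, g, 9] ∈ numbering.pairs by decide +kernel) g hg h9 h8)⟩

/-- The centraliser of the first two generators. -/
def Lsub : Subgroup G1 := Hsub ⊓ Subgroup.centralizer ({x 1} : Set G1)

theorem mem_Lsub {g : G1} : g ∈ Lsub ↔ Commute g (x 0) ∧ Commute g (x 1) := by
  rw [Lsub, Subgroup.mem_inf, mem_H_iff, Subgroup.mem_centralizer_singleton_iff]
  exact Iff.rfl

theorem B_le_L : Bsub ≤ Lsub := fun a ha =>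
  mem_Lsub.2 ⟨mem_H_iff.1 (B_le ha), (commute_B ha).symm⟩

theorem turn_mem_L : turn ∈ Lsub := by
  have h0 : Commute turn (x 0) := mem_H_iff.1 turn_mem
  refine mem_Lsub.2 ⟨h0, ?_⟩
  have hq := turn_q1
  rw [q1, smul_smul, smul_q0, smul_q0, QuotientGroup.eq] at hq
  have e := conj_eq hq
  -- the braid
  have hb := Fi24.braid (a := 0) (b := 1) (by decide) (by decide) (by decide +kernel)
  have hi : (x 1)⁻¹ = x 1 := inv_eq_of_mul_eq_one_left (x_mul_self 1)
  rw [mul_inv_rev, hi] at e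
  have hm : Commute turn (x 1 * x 0 * x 1) := mul_inv_eq_iff_eq_mul.1 (by
    calc turn * (x 1 * x 0 * x 1) * turn⁻¹ = turn * x 1 * x 0 * (x 1 * turn⁻¹) := by group
      _ = x 1 * x 0 * x 1 := e)
  have h1 : x 1 = x 0 * (x 1 * x 0 * x 1) * x 0 := by
    rw [← hb, show x 0 * (x 0 * x 1 * x 0) * x 0 = x 0 * x 0 * x 1 * (x 0 * x 0) by group, x_mul_self]
    group
  rw [h1]
  exact (h0.mul_right hm).mul_right h0

theorem card_L : Nat.card Lsub ≤ 29713078886400 := by
  have := h_card.1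
  have hfix : ∀ a ∈ Lsub, a • q1 = q1 := fun a ha => by
    obtain ⟨h0, h1⟩ := mem_Lsub.1 ha
    rw [q1, smul_smul, h1.eq, ← smul_smul, fix_q0 (mem_H_iff.2 h0)]
  obtain ⟨-, h2⟩ := orbit_bound (K := Lsub) inf_le_left hfix (le_refl _)
  rw [orbit_sizes.1] at h2
  exact Nat.le_of_mul_le_mul_right (h2.trans (by norm_num)) (by norm_num)

theorem card_B : 9904359628800 ≤ Nat.card Bsub := by
  refine b_order.trans (le_trans (le_of_eq ?_) card_map_le)
  rw [Bsub, map_subW (by decide +kernel)]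

set_option maxHeartbeats 1000000 in
/-- An element of the centraliser of the first two carries a product of two of the nine into the nine. -/
theorem conj_pair_mem {τ : G1} (hτ : τ ∈ Lsub) {v w : ℕ} (hv : v ∈ [3, 4, 5, 6, 7, 8, 9, 10, 11])
    (hw : w ∈ [3, 4, 5, 6, 7, 8, 9, 10, 11]) : τ * (x v * x w) * τ⁻¹ ∈ Bsub := by
  classical
  haveI := fin24
  have hmem : ∀ g ∈ [3, 4, 5, 6, 7, 8, 9, 10, 11], x g ∈ Bsub := fun g hg => by
    obtain ⟨hg', hlt⟩ := (show ∀ g ∈ [3, 4, 5, 6, 7, 8, 9, 10, 11], overOK b80Words [g] = true ∧ g < 12 by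
      decide +kernel) g hg
    have := mem_subW_of_over hg'
    rwa [Fi24.wordVal_one (by simp only [eps]; omega)] at this
  obtain ⟨B', hB'⟩ : ∃ B' : Subgroup Lsub, B' = Bsub.subgroupOf Lsub := ⟨_, rfl⟩
  have hidx : B'.index ≤ 3 := by
    have h1 := Subgroup.card_mul_index B'
    have h2 : Nat.card B' = Nat.card Bsub := by
      rw [hB', Nat.card_congr (Subgroup.subgroupOfEquivOfLe B_le_L).toEquiv]
    rw [h2] at h1
    have h3 := card_L
    have h4 := card_B
    by_contra hcon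
    have h5 : 9904359628800 * 4 ≤ Nat.card Bsub * B'.index := Nat.mul_le_mul h4 (by omega)
    omega
  have hout : ∀ u : Lsub, u ∈ B' → (u : G1) ∈ Bsub := fun u hu => by rwa [hB', Subgroup.mem_subgroupOf] at hu
  obtain ⟨N, hN⟩ : ∃ N : Subgroup Lsub, N = B'.normalCore := ⟨_, rfl⟩
  haveI : N.Normal := hN ▸ B'.normalCore_normal
  have hNB : N ≤ B' := hN ▸ B'.normalCore_le
  have hNi : N.index ≤ B'.index.factorial := by
    rw [hN, Subgroup.normalCore_eq_ker, Subgroup.index_ker, Subgroup.index_eq_card, ← Nat.card_perm]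
    exact Finite.card_subtype_le _
  have hrel : N.relIndex B' ≤ 2 := by
    have h := Subgroup.relIndex_mul_index hNB
    rw [← h] at hNi
    have h0 : B'.index ≠ 0 := Subgroup.index_ne_zero_of_finite
    generalize B'.index = i at hidx hNi h0
    interval_cases i <;> norm_num [Nat.factorial] at hNi <;> omega
  obtain ⟨M, hM⟩ : ∃ M : Subgroup B', M = N.subgroupOf B' := ⟨_, rfl⟩
  haveI : M.Normal := hM ▸ inferInstance
  have hMi : M.index = 1 ∨ M.index = 2 := by
    have h0 : M.index ≠ 0 := Subgroup.index_ne_zero_of_finite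
    have : M.index ≤ 2 := by rw [hM]; exact hrel
    omega
  have hy : ∀ g ∈ [3, 4, 5, 6, 7, 8, 9, 10, 11], ∃ y : B', ((y : Lsub) : G1) = x g := fun g hg =>
    ⟨⟨⟨x g, B_le_L (hmem g hg)⟩, by rw [hB']; exact hmem g hg⟩, rfl⟩
  choose! y hy using hy
  have hedge : ∀ e ∈ [(3, 4), (4, 5), (5, 6), (6, 7), (7, 8), (8, 9), (5, 10), (10, 11)],
      (y e.1 ∈ M ↔ y e.2 ∈ M) := fun e he => by
    obtain ⟨h1, h2, h3⟩ := (show ∀ e ∈ [(3, 4), (4, 5), (5, 6), (6, 7), (7, 8), (8, 9), (5, 10), (10, 11)],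
      e.1 ∈ [3, 4, 5, 6, 7, 8, 9, 10, 11] ∧ e.2 ∈ [3, 4, 5, 6, 7, 8, 9, 10, 11] ∧
        [e.2, e.1, e.2, e.1, e.2, e.1] ∈ numbering.pairs by decide +kernel) e he
    have hlt : ∀ g ∈ [3, 4, 5, 6, 7, 8, 9, 10, 11], g < 12 := by decide
    have hb : y e.1 * y e.2 * y e.1 = y e.2 * y e.1 * y e.2 := Subtype.ext (Subtype.ext (by
      push_cast
      rw [hy _ h1, hy _ h2]
      exact Fi24.braid (hlt _ h1) (hlt _ h2) h3))
    have e1 : y e.2 = (y e.1 * y e.2) * y e.1 * (y e.1 * y e.2)⁻¹ := by rw [hb]; group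
    have e2 : y e.1 = (y e.1 * y e.2)⁻¹ * y e.2 * (y e.1 * y e.2)⁻¹⁻¹ := by
      rw [inv_inv, show (y e.1 * y e.2)⁻¹ * y e.2 * (y e.1 * y e.2) =
        (y e.1 * y e.2)⁻¹ * (y e.2 * y e.1 * y e.2) by group, ← hb]
      group
    exact ⟨fun h => e1 ▸ ‹M.Normal›.conj_mem _ h _, fun h => e2 ▸ ‹M.Normal›.conj_mem _ h _⟩
  have hall : ∀ g ∈ [3, 4, 5, 6, 7, 8, 9, 10, 11], (y g ∈ M ↔ y 5 ∈ M) := by
    have a34 := hedge (3, 4) (by decide)
    have a45 := hedge (4, 5) (by decide)
    have a56 := hedge (5, 6) (by decide)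
    have a67 := hedge (6, 7) (by decide)
    have a78 := hedge (7, 8) (by decide)
    have a89 := hedge (8, 9) (by decide)
    have a510 := hedge (5, 10) (by decide)
    have a1011 := hedge (10, 11) (by decide)
    intro g hg
    simp only [List.mem_cons, List.not_mem_nil, or_false] at hg
    rcases hg with rfl | rfl | rfl | rfl | rfl | rfl | rfl | rfl | rfl
    exacts [a34.trans a45, a45, Iff.rfl, a56.symm, a67.symm.trans a56.symm, (a78.symm.trans a67.symm).trans a56.symm,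
      ((a89.symm.trans a78.symm).trans a67.symm).trans a56.symm, a510.symm, a1011.symm.trans a510.symm]
  have hvw : y v * y w ∈ M := by
    rcases hMi with h | h
    · rw [Subgroup.index_eq_one.1 h]; exact Subgroup.mem_top _
    · have hiff : y v ∈ M ↔ y w ∈ M := (hall v hv).trans (hall w hw).symm
      have hmm := Subgroup.mul_mem_iff_of_index_two (a := y v) (b := y w) h
      exact hmm.mpr hiff
  rw [hM, Subgroup.mem_subgroupOf] at hvw
  have h := hNB (‹N.Normal›.conj_mem _ hvw ⟨τ, hτ⟩)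
  replace h := hout _ h
  push_cast at h
  rw [hy v hv, hy w hw] at h
  exact h

end Cfsg.Lib.Fischer.Cent24
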