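import Cfsg.Agent.Lib.Fischer.Cent24.Side

/-!
# Matched exchanges
-/

set_option autoImplicit false
set_option maxRecDepth 100000

namespace Cfsg.Lib.Fischer.Cent24

open Cfsg Cfsg.Lib.CosetEnum Cfsg.Lib.BigPerm Cfsg.Lib.BigPerm.Fi24 Cfsg.Lib.BigPerm.Fi24Cert
open Cfsg.Lib.Fischer Cfsg.Lib.Fischer.Relations Cfsg.Lib.Fischer.M24

local notation "G1" => Cfsg.Spor.Fi24
local notation "D1" => Cfsg.Lib.BigPerm.Fi24.D
local notation "x" => Cfsg.Lib.BigPerm.Fi24.x

attribute [local instance] fin24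

variable {X : Type*} [Group X]

namespace Side

variable {G₀ : Subgroup X} {d t o t2 : X} {ι : Cfsg.Spor.Fi23 →* X} (S : Side G₀ d t o t2 ι)
include S

set_option maxHeartbeats 1000000 in
/-- A neighbour going to the product of the outer involution with the transposition, with matched exchanges. -/
theorem exists_seed [Finite X] : ∃ a r, Seed D1 (x 0) d (toX ι d) a r ∧ toX ι d a = d * t := by
  classical
  obtain ⟨d0, K⟩ := exists_data
  have P := S.twin
  obtain ⟨a, ha, hpa⟩ := exists_perp (IsConj.refl Cent23.delta23)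
  obtain ⟨u2, hu2, hu2e⟩ := S.t2_mem
  obtain ⟨a2, ha2, hpa2⟩ := exists_perp hu2
  have hfa : toX ι d a = d * t := by rw [S.toX_perp ha, hpa, S.t_eq]
  have hfa2 : toX ι d a2 = d * t2 := by rw [S.toX_perp ha2, hpa2, hu2e]
  have hdt2 : Commute t2 d := hu2e ▸ S.comm u2
  have h0 : (x 0) ∈ D1 := x_mem (by decide)
  have hda : Commute (x 0) a := ha.2.2
  have hdt : Commute d t := S.comm_t.symm
  have ha2a : a2 ∈ perp D1 a := by
    refine ⟨ha2.1, fun e => S.t2_ne ?_, (P.commute_iff hda.symm ha2.2.2.symm).1 ?_⟩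
    · exact mul_left_cancel (hfa2.symm.trans ((congrArg (toX ι d) e).trans hfa))
    · rw [hfa, hfa2]
      exact ((Commute.refl d).mul_left hdt.symm).mul_right (hdt2.symm.mul_left S.t2_t.symm)
  -- the exchange in the model
  obtain ⟨y, hy, hdy, hay⟩ : ∃ y ∈ D1, ¬ Commute (x 0) y ∧ ¬ Commute a y := by
    obtain ⟨g, hg⟩ := K.trans.trans d0 K.mem (x 0) h0
    have ha' : g⁻¹ * a * g ∈ perp D1 d0 := (mem_perp_conj K.trans g d0 a).1 (hg ▸ ha)
    obtain ⟨y, hy, h1, h2⟩ := exists_far_both K ha'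
    refine ⟨g * y * g⁻¹, K.trans.conj g y hy, fun h => h1 ?_, fun h => h2 ?_⟩
    · rw [← hg] at h; exact (Commute.conj_iff g).1 h
    · rw [show a = g * (g⁻¹ * a * g) * g⁻¹ by group] at h
      exact (Commute.conj_iff g).1 h
  obtain ⟨p, q, -, -, -, -, -, -, hss, hsd, hsa⟩ := swap_pair K.trans h0 ha.1 hy hda ha.2.1.symm hdy hay
  obtain ⟨s, hs⟩ : ∃ s, s = p * q := ⟨_, rfl⟩
  rw [← hs] at hss hsd hsa
  have hsi : s⁻¹ = s := inv_eq_of_mul_eq_one_right hss
  have A : Exchange.Outer D1 (x 0) a fun g => s * g * s⁻¹ :=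
    Exchange.outer_conj K h0 ha (by rw [hsi, hsd]) (by rw [hsi, hsa])
  -- the exchange on the other side, pulled back
  have hot : o * t * o⁻¹ = t := by rw [S.o_t.eq, mul_inv_cancel_right]
  have hodt : o * (d * t) * o⁻¹ = d := by
    rw [show o * (d * t) * o⁻¹ = o * d * o⁻¹ * (o * t * o⁻¹) by group, S.o_d, hot, mul_assoc, S.tt, mul_one]
  have him : ∀ g, Commute g (x 0) → Commute g a →
      Commute (o * toX ι d g * o⁻¹) d ∧ Commute (o * toX ι d g * o⁻¹) (d * t) := fun g h1 h2 => by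
    have k1 := P.maps g h1
    have k2 : Commute (toX ι d g) (d * t) := hfa ▸ (P.commute_iff h1 hda.symm).2 h2
    have e2 := (Commute.conj_iff o).2 k2
    have e1 := (Commute.conj_iff o).2 k1
    rw [hodt] at e2
    rw [S.o_d] at e1
    exact ⟨e2, e1⟩
  have himg : ∀ g, Commute g (x 0) → Commute g a → ∃ g', Commute g' (x 0) ∧ toX ι d g' = o * toX ι d g * o⁻¹ := by
    intro g h1 h2
    have hgH := mem_H_iff.2 h1
    obtain ⟨u, hu⟩ : ∃ u, u = proj ⟨g, hgH⟩ := ⟨_, rfl⟩
    have k2 : Commute (toX ι d g) t := by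
      have := (P.maps g h1).mul_right (hfa ▸ (P.commute_iff h1 hda.symm).2 h2 : Commute (toX ι d g) (d * t))
      rwa [← mul_assoc, S.dd, one_mul] at this
    rw [toX_eq hgH, ← hu] at k2 ⊢
    have hsu : ∀ s, Commute s t → Commute (s * ι u) t → Commute u Cent23.delta23 := fun s hs hsu => S.inj (by
      have := hs.inv_left.mul_left hsu
      rw [inv_mul_cancel_left, ← S.t_eq] at this
      rw [map_mul, map_mul]
      exact this.eq)
    rcases sgn_cases (d := d) g with ⟨-, e⟩ | ⟨-, e⟩ <;> rw [e] at k2 ⊢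
    · obtain ⟨v, hv⟩ := S.o_norm u (hsu 1 (Commute.one_left _) k2)
      obtain ⟨g', hg', e'⟩ := S.lift_iota v
      exact ⟨g', hg', by rw [e', ← hv, one_mul]⟩
    · obtain ⟨v, hv⟩ := S.o_norm u (hsu d hdt k2)
      obtain ⟨g', hg', e'⟩ := S.lift_d_iota (Cent23.delta23 * v)
      refine ⟨g', hg', ?_⟩
      rw [e', map_mul, S.t_eq, ← hv, ← mul_assoc, ← S.o_d]
      group
  choose! pre hpre using fun g (h : Commute g (x 0) ∧ Commute g a) => himg g h.1 h.2
  obtain ⟨α, hα⟩ : ∃ α : G1 → G1, α = pre := ⟨_, rfl⟩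
  have hα1 : ∀ g, Commute g (x 0) → Commute g a →
      Commute (α g) (x 0) ∧ Commute (α g) a ∧ toX ι d (α g) = o * toX ι d g * o⁻¹ := fun g h1 h2 => by
    obtain ⟨e1, e2⟩ := hpre g ⟨h1, h2⟩
    rw [hα]
    refine ⟨e1, (P.commute_iff e1 hda.symm).1 ?_, e2⟩
    rw [e2, hfa]
    exact (him g h1 h2).2
  have hαmul : ∀ g h, Commute g (x 0) → Commute g a → Commute h (x 0) → Commute h a →
      α (g * h) = α g * α h := fun g h g1 g2 h1 h2 => by
    obtain ⟨u, v, e⟩ := hα1 _ (g1.mul_left h1) (g2.mul_left h2)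
    obtain ⟨u', -, e'⟩ := hα1 g g1 g2
    obtain ⟨u'', -, e''⟩ := hα1 h h1 h2
    refine P.inj _ _ u (u'.mul_left u'') ?_
    rw [e, P.mul _ _ u' u'', e', e'', P.mul _ _ g1 h1]
    group
  have hαd : α (x 0) = a := by
    obtain ⟨u, -, e⟩ := hα1 _ (Commute.refl _) hda
    exact P.inj _ _ u hda.symm (by rw [e, P.base, S.o_d, hfa])
  have hαa : α a = x 0 := by
    obtain ⟨u, -, e⟩ := hα1 _ hda.symm (Commute.refl _)
    exact P.inj _ _ u (Commute.refl _) (by rw [e, P.base, hfa, hodt])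
  have hαa2 : α a2 = a2 := by
    obtain ⟨u, -, e⟩ := hα1 _ ha2.2.2.symm ha2a.2.2.symm
    refine P.inj _ _ u ha2.2.2.symm ?_
    rw [e, hfa2, show o * (d * t2) * o⁻¹ = o * d * o⁻¹ * (o * t2 * o⁻¹) by group, S.o_d, S.o_t2, S.t2_t.eq,
      ← mul_assoc, mul_assoc d t t, S.tt, mul_one]
  have htf : ∀ g, Commute g (x 0) → Commute g a → Commute (toX ι d g) t := fun g h1 h2 => by
    have k1 := P.maps g h1
    have k2 : Commute (toX ι d g) (d * t) := hfa ▸ (P.commute_iff h1 hda.symm).2 h2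
    have := k1.mul_right k2
    rwa [← mul_assoc, S.dd, one_mul] at this
  have hαperp : ∀ v ∈ perp D1 (x 0) ∩ perp D1 a, α v ∈ D1 := fun v hv => by
    obtain ⟨g, g0, ga, gv⟩ := K.tri_transitive (d₁ := x 0) (y₁ := a) (z₁ := a2) (d₂ := x 0) (y₂ := a) (z₂ := v)
      ⟨ha, ha2, ha2a⟩ h0 ⟨ha, hv.1, hv.2⟩ h0
    have c0 : Commute g (x 0) := mul_inv_eq_iff_eq_mul.1 g0
    have ca : Commute g a := mul_inv_eq_iff_eq_mul.1 ga
    have c2 : Commute (g * a2) (x 0) := c0.mul_left ha2.2.2.symm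
    have c2' : Commute (g * a2) a := ca.mul_left ha2a.2.2.symm
    have hinv : α g⁻¹ = (α g)⁻¹ := by
      obtain ⟨u, -, e⟩ := hα1 _ c0.inv_left ca.inv_left
      obtain ⟨u', -, e'⟩ := hα1 _ c0 ca
      refine P.inj _ _ u u'.inv_left ?_
      rw [e, P.map_inv u', e', P.map_inv c0]
      group
    rw [← gv, hαmul _ _ c2 c2' c0.inv_left ca.inv_left, hαmul _ _ c0 ca ha2.2.2.symm ha2a.2.2.symm, hαa2, hinv]
    exact K.trans.conj _ _ ha2.1
  have A' : Exchange.Outer D1 (x 0) a α := by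
    refine ⟨hαd, hαa, fun g h1 h2 => ⟨(hα1 g h1 h2).1, (hα1 g h1 h2).2.1⟩, hαmul, ?_, hαperp, ?_⟩
    · intro g h g1 g2 h1 h2 e
      obtain ⟨-, -, eg⟩ := hα1 g g1 g2
      obtain ⟨-, -, eh⟩ := hα1 h h1 h2
      rw [e, eh] at eg
      exact (P.inj _ _ h1 g1 (mul_left_cancel (mul_right_cancel eg))).symm
    intro k k1 k2
    by_contra hcon
    push Not at hcon
    obtain ⟨c, hc⟩ : ∃ c, c = (toX ι d k)⁻¹ * o := ⟨_, rfl⟩
    have hcv : ∀ w, c * w * c⁻¹ = (toX ι d k)⁻¹ * (o * w * o⁻¹) * toX ι d k := fun w => by rw [hc]; group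
    have hcd : c * d * c⁻¹ = d * t := by
      rw [hcv, S.o_d, ((P.maps k k1).mul_right (htf k k1 k2)).inv_left.eq, inv_mul_cancel_right]
    have hcdt : c * (d * t) * c⁻¹ = d := by
      rw [hcv, hodt, (P.maps k k1).inv_left.eq, inv_mul_cancel_right]
    have hct : c * t * c⁻¹ = t := by
      rw [hcv, hot, (htf k k1 k2).inv_left.eq, inv_mul_cancel_right]
    have hfix : ∀ v ∈ perp D1 (x 0) ∩ perp D1 a, c * toX ι d v * c⁻¹ = toX ι d v := fun v hv => by
      obtain ⟨u, -, e⟩ := hα1 v hv.1.2.2.symm hv.2.2.2.symm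
      rw [hcv, ← e, hcon v hv, P.map_conj k1 hv.1.2.2.symm]
      group
    -- what it does on the centraliser of the pair
    have hgen : Subgroup.centralizer ({x 0, a} : Set G1) ≤
        Subgroup.closure ({x 0, a} ∪ (perp D1 (x 0) ∩ perp D1 a)) := fun g hg => by
      rw [Subgroup.mem_centralizer_iff] at hg
      exact Exchange.mem_gen K h0 ha (hg (x 0) (by simp)).symm (hg a (by simp)).symm
    have hM : ∀ g ∈ Subgroup.closure ({x 0, a} ∪ (perp D1 (x 0) ∩ perp D1 a)), Commute g (x 0) ∧ Commute g a ∧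
        (c * toX ι d g * c⁻¹ = toX ι d g ∨ c * toX ι d g * c⁻¹ = t * toX ι d g) := by
      intro g hg
      induction hg using Subgroup.closure_induction with
      | mem v hv =>
        rcases hv with (rfl | rfl) | hv
        · refine ⟨Commute.refl _, hda, Or.inr ?_⟩
          rw [P.base, hcd, hdt.eq]
        · refine ⟨hda.symm, Commute.refl _, Or.inr ?_⟩
          rw [hfa, hcdt, ← mul_assoc, ← hdt.eq, mul_assoc, S.tt, mul_one]
        · exact ⟨hv.1.2.2.symm, hv.2.2.2.symm, Or.inl (hfix v hv)⟩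
      | one => exact ⟨Commute.one_left _, Commute.one_left _, Or.inl (by rw [P.map_one]; group)⟩
      | mul g h _ _ ihg ihh =>
        obtain ⟨g1, g2, eg⟩ := ihg
        obtain ⟨h1, h2, eh⟩ := ihh
        refine ⟨g1.mul_left h1, g2.mul_left h2, ?_⟩
        have e : c * toX ι d (g * h) * c⁻¹ = c * toX ι d g * c⁻¹ * (c * toX ι d h * c⁻¹) := by
          rw [P.mul _ _ g1 h1]; group
        rw [e, P.mul _ _ g1 h1]
        rcases eg with eg | eg <;> rcases eh with eh | eh <;> rw [eg, eh]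
        · exact Or.inl rfl
        · right; rw [← mul_assoc, (htf g g1 g2).eq, mul_assoc]
        · right; rw [mul_assoc]
        · left
          rw [show t * toX ι d g * (t * toX ι d h) = t * (toX ι d g * t) * toX ι d h by group, (htf g g1 g2).eq,
            ← mul_assoc t t, S.tt, one_mul]
      | inv g _ ih =>
        obtain ⟨g1, g2, eg⟩ := ih
        refine ⟨g1.inv_left, g2.inv_left, ?_⟩
        have e : c * toX ι d g⁻¹ * c⁻¹ = (c * toX ι d g * c⁻¹)⁻¹ := by rw [P.map_inv g1]; group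
        rw [e, P.map_inv g1]
        rcases eg with eg | eg <;> rw [eg]
        · exact Or.inl rfl
        · right
          rw [mul_inv_rev, inv_eq_of_mul_eq_one_left S.tt, (htf g g1 g2).inv_left.eq]
    -- on the perfect centraliser of the transposition it is the identity
    obtain ⟨C, hC⟩ : ∃ C, C = Subgroup.centralizer ({Cent23.delta23} : Set Cfsg.Spor.Fi23) := ⟨_, rfl⟩
    have hval : ∀ u ∈ C, c * ι u * c⁻¹ = ι u ∨ c * ι u * c⁻¹ = t * ι u := fun u hu => by
      obtain ⟨g, hg, e⟩ := S.lift_iota u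
      have hga : Commute g a := (P.commute_iff hg hda.symm).1 (by
        rw [e, hfa]
        refine (S.comm u).mul_right ?_
        rw [← S.t_eq]
        rw [hC, Subgroup.mem_centralizer_singleton_iff] at hu
        exact (show Commute u Cent23.delta23 from hu).map ι)
      have := (hM g (hgen (Subgroup.mem_centralizer_iff.2 (by
        rintro w (rfl | rfl)
        exacts [hg.eq.symm, hga.eq.symm])))).2.2
      rwa [e] at this
    let F : ↥C →* X := MonoidHom.mk' (fun u => c * ι u * c⁻¹ * (ι u)⁻¹) fun u v => by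
      rcases hval v v.2 with e | e
      · rw [Subgroup.coe_mul, map_mul, show c * (ι u * ι v) * c⁻¹ = c * ι u * c⁻¹ * (c * ι v * c⁻¹) by group, e]
        group
      · rw [Subgroup.coe_mul, map_mul, show c * (ι u * ι v) * c⁻¹ = c * ι u * c⁻¹ * (c * ι v * c⁻¹) by group, e]
        have hu : Commute (ι u)⁻¹ t := by
          rw [← S.t_eq]
          exact ((show Commute (u : Cfsg.Spor.Fi23) Cent23.delta23 from
            Subgroup.mem_centralizer_singleton_iff.1 (hC ▸ u.2)).map ι).inv_left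
        rw [show c * ι u * c⁻¹ * (t * ι v) * (ι u * ι v)⁻¹ = c * ι u * c⁻¹ * (t * (ι u)⁻¹) by group,
          ← hu.eq]
        group
    have hFt : ∀ u, F u = 1 ∨ F u = t := fun u => by
      rcases hval u u.2 with e | e
      · left; show c * ι u * c⁻¹ * (ι u)⁻¹ = 1; rw [e, mul_inv_cancel]
      · right; show c * ι u * c⁻¹ * (ι u)⁻¹ = t; rw [e, mul_inv_cancel_right]
    have hker : commutator ↥C ≤ F.ker := by
      rw [commutator_def, Subgroup.commutator_le]
      intro u _ v _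
      rw [MonoidHom.mem_ker, map_commutatorElement, commutatorElement_eq_one_iff_commute]
      rcases hFt u with e | e <;> rcases hFt v with e' | e' <;> rw [e, e'] <;>
        first | exact Commute.refl _ | exact Commute.one_left _ | exact Commute.one_right _
    have hp : commutator ↥C = ⊤ := hC ▸ S.perfect
    have hu2C : u2 ∈ C := by
      rw [hC, Subgroup.mem_centralizer_singleton_iff]
      exact S.inj (by rw [map_mul, map_mul, hu2e, S.t_eq, S.t2_t.eq])
    have hF2 : F ⟨u2, hu2C⟩ = 1 := hker (hp ▸ Subgroup.mem_top _)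
    have e2 : c * t2 * c⁻¹ = t2 := by
      have : c * ι u2 * c⁻¹ * (ι u2)⁻¹ = 1 := hF2
      rwa [hu2e, mul_inv_eq_one] at this
    have e3 := hfix a2 ⟨ha2, ha2a⟩
    rw [hfa2, show c * (d * t2) * c⁻¹ = c * d * c⁻¹ * (c * t2 * c⁻¹) by group, hcd, e2, mul_assoc,
      mul_right_inj, mul_eq_right] at e3
    exact S.t_ne e3
  obtain ⟨k, k1, k2, hk⟩ := Exchange.exists_inner K h0 ha A A'
  obtain ⟨r0, hr0⟩ : ∃ r0, r0 = (toX ι d k)⁻¹ * o := ⟨_, rfl⟩
  have hpres : ∀ g, Commute g (x 0) → Commute g a → Commute (s * g * s) (x 0) ∧ Commute (s * g * s) a :=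
    fun g h1 h2 => by
      obtain ⟨u, v⟩ := A.maps g h1 h2
      rw [hsi] at u v
      exact ⟨u, v⟩
  have hr : ∀ g, Commute g (x 0) → Commute g a → r0 * toX ι d g * r0⁻¹ = toX ι d (s * g * s) := fun g h1 h2 => by
    obtain ⟨u, v⟩ := hpres g h1 h2
    have e := hk _ u v
    rw [hsi, show s * (s * g * s) * s = s * s * g * (s * s) by group, hss, one_mul, mul_one] at e
    obtain ⟨-, -, ea⟩ := hα1 g h1 h2
    rw [e, P.map_conj k1 u] at ea
    rw [hr0, show (toX ι d k)⁻¹ * o * toX ι d g * ((toX ι d k)⁻¹ * o)⁻¹ =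
      (toX ι d k)⁻¹ * (o * toX ι d g * o⁻¹) * toX ι d k by group, ← ea]
    group
  have rd : r0 * d * r0⁻¹ = d * t := by rw [← P.base, hr _ (Commute.refl _) hda, hsd, hfa, P.base]
  have rb : r0 * (d * t) * r0⁻¹ = d := by rw [← hfa, hr _ hda.symm (Commute.refl _), hsa, P.base]
  have hsq : ∀ g, Commute g (x 0) → Commute g a → Commute (r0 * r0) (toX ι d g) := fun g h1 h2 => by
    obtain ⟨u, v⟩ := hpres g h1 h2
    refine mul_inv_eq_iff_eq_mul.1 ?_
    rw [show r0 * r0 * toX ι d g * (r0 * r0)⁻¹ = r0 * (r0 * toX ι d g * r0⁻¹) * r0⁻¹ by group, hr g h1 h2,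
      hr _ u v, show s * (s * g * s) * s = s * s * g * (s * s) by group, hss, one_mul, mul_one]
  obtain ⟨g0, hg0, eg0⟩ : ∃ g0, Commute g0 (x 0) ∧ toX ι d g0 = r0 * r0 := by
    obtain ⟨v, hv⟩ := S.o_sq
    obtain ⟨g2, hg2, e2⟩ := S.lift_iota v
    obtain ⟨u, -, e⟩ := hα1 k⁻¹ k1.inv_left k2.inv_left
    refine ⟨k⁻¹ * α k⁻¹ * g2, (k1.inv_left.mul_left u).mul_left hg2, ?_⟩
    rw [P.mul _ _ (k1.inv_left.mul_left u) hg2, P.mul _ _ k1.inv_left u, e, e2, hv, P.map_inv k1, hr0]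
    group
  have hg0a : Commute g0 a := (P.commute_iff hg0 hda.symm).1 (eg0 ▸ hsq a hda.symm (Commute.refl _))
  have hcen : ∀ g, Commute g (x 0) → Commute g a → Commute g0 g := fun g h1 h2 =>
    (P.commute_iff hg0 h1).1 (eg0 ▸ hsq g h1 h2)
  have hrr : r0 * (r0 * r0) * r0⁻¹ = r0 * r0 := by group
  have hne : d * t ≠ d := fun e => S.t_ne (mul_eq_left.1 e)
  have hadt : toX ι d (x 0 * a) = t := by rw [P.mul _ _ (Commute.refl _) hda.symm, P.base, hfa, ← mul_assoc, S.dd,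
    one_mul]
  obtain ⟨r, hr2, hrd, hra⟩ : ∃ r, r * r = 1 ∧ r * d * r = d * t ∧
      ∀ g, Commute g (x 0) → Commute g a → r * toX ι d g * r⁻¹ = toX ι d (s * g * s) := by
    rcases Exchange.pair_center K h0 ha hg0 hg0a hcen with e | e | e | e <;> rw [e] at eg0
    · rw [P.map_one] at eg0
      refine ⟨r0, eg0.symm, ?_, hr⟩
      rwa [inv_eq_of_mul_eq_one_left eg0.symm] at rd
    · rw [P.base] at eg0
      rw [← eg0, rd] at hrr
      exact absurd hrr hne
    · rw [hfa] at eg0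
      rw [← eg0, rb] at hrr
      exact absurd hrr.symm hne
    · rw [hadt] at eg0
      refine ⟨r0 * d, ?_, ?_, fun g h1 h2 => ?_⟩
      · rw [show r0 * d * (r0 * d) = r0 * d * r0⁻¹ * (r0 * r0) * d by group, rd, ← eg0, mul_assoc d t t, S.tt,
          mul_one, S.dd]
      · rw [show r0 * d * d * (r0 * d) = r0 * (d * d) * r0 * d by group, S.dd, mul_one, ← eg0, hdt.eq]
      · rw [show r0 * d * toX ι d g * (r0 * d)⁻¹ = r0 * (d * toX ι d g * d⁻¹) * r0⁻¹ by group, (P.maps g h1).eq.symm,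
          mul_inv_cancel_right, hr g h1 h2]
  refine ⟨a, (s, r), ⟨ha, hss, hr2, hsd, by rw [hfa]; exact hrd, fun g h1 h2 => ?_⟩, hfa⟩
  show toX ι d (s * g * s⁻¹) = r * toX ι d g * r⁻¹
  rw [hsi, hra g h1 h2]

end Side

end Cfsg.Lib.Fischer.Cent24
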