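import Cfsg.Agent.Lib.Fischer.Cent24.Model

/-!
# The centraliser isomorphism at the outer involution
-/

set_option autoImplicit false
set_option maxRecDepth 100000

namespace Cfsg.Lib.Fischer.Cent24

open Cfsg Cfsg.Lib.CosetEnum Cfsg.Lib.BigPerm Cfsg.Lib.BigPerm.Fi24 Cfsg.Lib.BigPerm.Fi24Cert
open Cfsg.Lib.Fischer Cfsg.Lib.Fischer.Relations

local notation "G1" => Cfsg.Spor.Fi24
local notation "D1" => Cfsg.Lib.BigPerm.Fi24.D
local notation "x" => Cfsg.Lib.BigPerm.Fi24.x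

attribute [local instance] fin24

/-- The projection of the large subgroup on the presented Fi23. -/
noncomputable def proj : Hsub →* Cfsg.Spor.Fi23 := exists_onto_Fi23.choose

theorem proj_surj : Function.Surjective proj := exists_onto_Fi23.choose_spec.1

theorem proj_gen {g : ℕ} (hg : g < 10) (h : x (g + 2) ∈ Hsub) : proj ⟨x (g + 2), h⟩ = Cent23.x23 g :=
  exists_onto_Fi23.choose_spec.2.2 g hg h

theorem proj_eq_one {h : Hsub} : proj h = 1 ↔ (h : G1) = 1 ∨ (h : G1) = x 0 := by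
  rw [← MonoidHom.mem_ker, proj, exists_onto_Fi23.choose_spec.2.1]
  constructor
  · intro hh
    obtain ⟨i, rfl⟩ := Subgroup.mem_zpowers_iff.1 hh
    rw [SubgroupClass.coe_zpow]
    show x 0 ^ i = 1 ∨ x 0 ^ i = x 0
    rcases Int.even_or_odd i with ⟨j, rfl⟩ | ⟨j, rfl⟩
    · left; rw [← two_mul, zpow_mul, zpow_two, x_mul_self, one_zpow]
    · right; rw [zpow_add_one, zpow_mul, zpow_two, x_mul_self, one_zpow, one_mul]
  · rintro (e | e)
    · rw [show h = 1 from Subtype.ext e]; exact one_mem _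
    · rw [show h = lH from Subtype.ext e]; exact Subgroup.mem_zpowers _

theorem mem_out {v : G1} (hv : v ∈ D1) : v ∉ D24 := by
  intro h
  obtain ⟨g, hg⟩ := isConj_iff.1 hv
  refine x_not_mem (g := 0) (by decide) ?_
  haveI : (D24 : Subgroup G1).Normal := inferInstance
  have := ‹(D24 : Subgroup G1).Normal›.conj_mem v h g⁻¹
  rwa [← hg, show g⁻¹ * (g * x 0 * g⁻¹) * g⁻¹⁻¹ = x 0 by group] at this

theorem perp_H {v : G1} (hv : v ∈ perp D1 (x 0)) : v ∈ Hsub := mem_H_iff.2 hv.2.2.symm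

theorem closure_perp_H {h : G1} (hh : h ∈ Subgroup.closure (perp D1 (x 0))) : h ∈ Hsub :=
  (Subgroup.closure_le Hsub).2 (fun _ hu => perp_H hu) hh

theorem proj_perp {v : G1} (hv : v ∈ perp D1 (x 0)) :
    IsConj Cent23.delta23 (proj ⟨v, perp_H hv⟩) := by
  obtain ⟨d, K⟩ := exists_data
  have h2 := x_perp (g := 2) (by decide) (by decide) (by decide)
  obtain ⟨h, hh, e⟩ := perp_transitive K.fis (x_mem (by decide)) h2 hv
  refine Cent23.gen_conj23.trans (isConj_iff.2 ⟨proj ⟨h, closure_perp_H hh⟩, ?_⟩)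
  rw [← proj_gen (g := 0) (by decide) (perp_H h2), ← map_inv, ← map_mul, ← map_mul]
  exact congrArg proj (Subtype.ext e)

theorem exists_perp {u : Cfsg.Spor.Fi23} (hu : IsConj Cent23.delta23 u) :
    ∃ v, ∃ hv : v ∈ perp D1 (x 0), proj ⟨v, perp_H hv⟩ = u := by
  obtain ⟨d, K⟩ := exists_data
  have h2 := x_perp (g := 2) (by decide) (by decide) (by decide)
  obtain ⟨w, hw⟩ := isConj_iff.1 (Cent23.gen_conj23.symm.trans hu)
  obtain ⟨h, rfl⟩ := proj_surj w
  have hm : (h : G1) * x 2 * (h : G1)⁻¹ ∈ perp D1 (x 0) := by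
    have := conj_perp K.fis (h : G1) (x 0) h2
    rwa [(mem_H_iff.1 h.2).eq, mul_inv_cancel_right] at this
  refine ⟨_, hm, ?_⟩
  rw [← hw, ← proj_gen (g := 0) (by decide) (perp_H h2), ← map_inv, ← map_mul, ← map_mul]
  rfl

variable {X : Type*} [Group X]

/-- The data at the outer involution. -/
structure Side (G₀ : Subgroup X) (d t o t2 : X) (ι : Cfsg.Spor.Fi23 →* X) : Prop where
  index : G₀.index = 2
  dd : d * d = 1
  d_out : d ∉ G₀
  inj : Function.Injective ι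
  mem : ∀ u, ι u ∈ G₀
  comm : ∀ u, Commute (ι u) d
  t_eq : ι Cent23.delta23 = t
  o_mem : o ∈ G₀
  o_t : Commute o t
  o_d : o * d * o⁻¹ = d * t
  o_norm : ∀ u, Commute u Cent23.delta23 → ∃ v, o * ι u * o⁻¹ = ι v
  o_sq : ∃ v, ι v = o * o
  o_t2 : o * t2 * o⁻¹ = t2 * t
  t2_mem : ∃ u, IsConj Cent23.delta23 u ∧ ι u = t2
  t2_t : Commute t2 t
  t2_ne : t2 ≠ t
  pair : ∀ k, k ∈ G₀ → Commute k d → Commute k t → Commute k t2 → ∃ u, ι u = k
  perfect : commutator ↥(Subgroup.centralizer ({Cent23.delta23} : Set Cfsg.Spor.Fi23)) = ⊤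

/-- An embedding of the centraliser of the first generator. -/
structure Emb {Y : Type*} [Group Y] (D₁ : Set G1) (d₁ : G1) (d : Y) (φ : G1 → Y) : Prop where
  base : φ d₁ = d
  mul : ∀ g h, Commute g d₁ → Commute h d₁ → φ (g * h) = φ g * φ h
  maps : ∀ g, Commute g d₁ → Commute (φ g) d
  inj : ∀ g h, Commute g d₁ → Commute h d₁ → φ g = φ h → g = h

namespace Emb

variable {Y : Type*} [Group Y] {D₁ : Set G1} {d₁ : G1} {d : Y} {φ : G1 → Y} (P : Emb D₁ d₁ d φ)
include P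

theorem map_one : φ 1 = 1 := by
  have h := P.mul 1 1 (Commute.one_left _) (Commute.one_left _)
  rw [one_mul] at h
  exact left_eq_mul.1 h

theorem map_inv {g : G1} (hg : Commute g d₁) : φ g⁻¹ = (φ g)⁻¹ := by
  refine eq_inv_of_mul_eq_one_left ?_
  rw [← P.mul _ _ hg.inv_left hg, inv_mul_cancel, P.map_one]

theorem map_conj {h g : G1} (hh : Commute h d₁) (hg : Commute g d₁) : φ (h * g * h⁻¹) = φ h * φ g * (φ h)⁻¹ := by
  rw [P.mul _ _ (hh.mul_left hg) hh.inv_left, P.mul _ _ hh hg, P.map_inv hh]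

theorem commute_iff {g h : G1} (hg : Commute g d₁) (hh : Commute h d₁) : Commute (φ g) (φ h) ↔ Commute g h := by
  refine ⟨fun e => P.inj _ _ (hg.mul_left hh) (hh.mul_left hg) ?_, fun e => ?_⟩
  · rw [P.mul _ _ hg hh, P.mul _ _ hh hg, e.eq]
  · show φ g * φ h = φ h * φ g
    rw [← P.mul _ _ hg hh, ← P.mul _ _ hh hg, e.eq]

theorem mem {v : G1} (hv : v ∈ perp D₁ d₁) : φ v ∈ perp (φ '' perp D₁ d₁) d :=
  ⟨⟨v, hv, rfl⟩, fun e => hv.2.1 (P.inj _ _ hv.2.2.symm (Commute.refl _) (e.trans P.base.symm)),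
    (P.maps v hv.2.2.symm).symm⟩

/-- A pair of corresponding elements of the centralizers. -/
theorem str_diag {h g : G1} (hh : Commute h d₁) (hg : Commute g d₁) : M24.Str φ (h, φ h) g :=
  P.map_conj hh hg

variable [Finite Y] {a : G1} {t : G1 × Y} (S : M24.Seed D₁ d₁ d φ a t)
include S

theorem lift_mul {g h : G1} (hg : Commute g a) (hh : Commute h a) :
    M24.lift φ t (g * h) = M24.lift φ t g * M24.lift φ t h := by
  rw [M24.lift, M24.lift, M24.lift, show t.1 * (g * h) * t.1 = t.1 * g * (t.1 * t.1) * h * t.1 by rw [S.sq₁]; group,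
    show t.1 * g * (t.1 * t.1) * h * t.1 = (t.1 * g * t.1) * (t.1 * h * t.1) by group,
    P.mul _ _ (S.to_d hg) (S.to_d hh),
    show t.2 * φ (t.1 * g * t.1) * t.2 * (t.2 * φ (t.1 * h * t.1) * t.2) =
      t.2 * φ (t.1 * g * t.1) * (t.2 * t.2) * φ (t.1 * h * t.1) * t.2 by group, S.sq₂]
  group

theorem lift_inj {g h : G1} (hg : Commute g a) (hh : Commute h a) (e : M24.lift φ t g = M24.lift φ t h) : g = h := by
  have := P.inj _ _ (S.to_d hg) (S.to_d hh) (mul_left_cancel (mul_right_cancel e))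
  exact mul_left_cancel (mul_right_cancel this)

theorem lift_conj {k g : G1} (h1 : Commute k d₁) (h2 : Commute k a) (hg : Commute g a) :
    M24.lift φ t (k * g * k⁻¹) = φ k * M24.lift φ t g * (φ k)⁻¹ := by
  rw [P.lift_mul S (h2.mul_left hg) h2.inv_left, P.lift_mul S h2 hg, S.fix h1 h2, S.fix h1.inv_left h2.inv_left,
    P.map_inv h1]

end Emb

namespace Side

variable {G₀ : Subgroup X} {d t o t2 : X} {ι : Cfsg.Spor.Fi23 →* X} (S : Side G₀ d t o t2 ι)
include S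

theorem comm_t : Commute t d := S.t_eq ▸ S.comm _

theorem tt : t * t = 1 := by rw [← S.t_eq, ← map_mul, Cent23.delta23_sq, map_one]

theorem t_ne : t ≠ 1 := by
  rw [← S.t_eq]
  exact fun e => Cent23.delta23_ne (S.inj (e.trans (map_one ι).symm))

omit S in
/-- The sign, as a power of the outer involution. -/
noncomputable def _root_.Cfsg.Lib.Fischer.Cent24.sgn (d : X) (g : G1) : X :=
  haveI := Classical.propDecidable (g ∈ D24)
  if g ∈ D24 then 1 else d

omit S in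
/-- The map on the centraliser of the first generator. -/
noncomputable def _root_.Cfsg.Lib.Fischer.Cent24.toX (ι : Cfsg.Spor.Fi23 →* X) (d : X) (g : G1) : X :=
  haveI := Classical.propDecidable (g ∈ Hsub)
  if h : g ∈ Hsub then sgn d g * ι (proj ⟨g, h⟩) else 1

omit S in
theorem toX_eq {g : G1} (h : g ∈ Hsub) : toX ι d g = sgn d g * ι (proj ⟨g, h⟩) := by
  rw [toX, dif_pos h]

omit S in
theorem sgn_cases (g : G1) : (g ∈ D24 ∧ sgn d g = 1) ∨ (g ∉ D24 ∧ sgn d g = d) := by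
  classical
  by_cases h : g ∈ D24
  · exact Or.inl ⟨h, by rw [sgn, if_pos h]⟩
  · exact Or.inr ⟨h, by rw [sgn, if_neg h]⟩

theorem sgn_mul (g h : G1) : sgn d (g * h) = sgn d g * sgn d h := by
  have hm := Subgroup.mul_mem_iff_of_index_two Cfsg.Agent.S1691.result (a := g) (b := h)
  rcases sgn_cases (d := d) g with ⟨a, ea⟩ | ⟨a, ea⟩ <;> rcases sgn_cases (d := d) h with ⟨b, eb⟩ | ⟨b, eb⟩ <;>
    rcases sgn_cases (d := d) (g * h) with ⟨c, ec⟩ | ⟨c, ec⟩ <;> rw [ea, eb, ec] <;>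
    first | (simp; done) | (rw [S.dd]; done) | (exfalso; tauto)

theorem sgn_comm (g : G1) (u : Cfsg.Spor.Fi23) : Commute (sgn d g) (ι u) := by
  rcases sgn_cases (d := d) g with ⟨-, e⟩ | ⟨-, e⟩ <;> rw [e]
  exacts [Commute.one_left _, (S.comm u).symm]

theorem sgn_d (g : G1) : Commute (sgn d g) d := by
  rcases sgn_cases (d := d) g with ⟨-, e⟩ | ⟨-, e⟩ <;> rw [e]
  exact Commute.one_left _

theorem toX_mul {g h : G1} (hg : g ∈ Hsub) (hh : h ∈ Hsub) : toX ι d (g * h) = toX ι d g * toX ι d h := by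
  rw [toX_eq (mul_mem hg hh), toX_eq hg, toX_eq hh, S.sgn_mul,
    show (⟨g * h, mul_mem hg hh⟩ : Hsub) = ⟨g, hg⟩ * ⟨h, hh⟩ from rfl, map_mul, map_mul]
  exact (S.sgn_comm h _).mul_mul_mul_comm (sgn d g) _

theorem toX_x0 : toX ι d (x 0) = d := by
  have h1 : proj ⟨x 0, l_mem⟩ = 1 := proj_eq_one.2 (Or.inr rfl)
  rw [toX_eq l_mem, h1, map_one, mul_one]
  rcases sgn_cases (d := d) (x 0) with ⟨a, -⟩ | ⟨-, e⟩
  · exact absurd a (x_not_mem (by decide))
  · exact e

theorem toX_perp {v : G1} (hv : v ∈ perp D1 (x 0)) : toX ι d v = d * ι (proj ⟨v, perp_H hv⟩) := by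
  rw [toX_eq (perp_H hv)]
  rcases sgn_cases (d := d) v with ⟨a, -⟩ | ⟨-, e⟩
  · exact absurd a (mem_out hv.1)
  · rw [e]

theorem toX_mem_iff {g : G1} (hg : g ∈ Hsub) : toX ι d g ∈ G₀ ↔ g ∈ D24 := by
  rw [toX_eq hg]
  rcases sgn_cases (d := d) g with ⟨a, e⟩ | ⟨a, e⟩ <;> rw [e]
  · rw [one_mul]; exact iff_of_true (S.mem _) a
  · refine iff_of_false (fun h => S.d_out ?_) a
    have := mul_mem h (inv_mem (S.mem (proj ⟨g, hg⟩)))
    rwa [mul_inv_cancel_right] at this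

theorem twin : Emb D1 (x 0) d (toX ι d) := by
  have hH : ∀ {g : G1}, Commute g (x 0) → g ∈ Hsub := fun h => mem_H_iff.2 h
  have hone : ∀ {g : G1} (hg : g ∈ Hsub), toX ι d g = 1 → g = 1 := fun {g} hg e => by
    have h1 : g ∈ D24 := (S.toX_mem_iff hg).1 (e ▸ one_mem _)
    rw [toX_eq hg] at e
    rcases sgn_cases (d := d) g with ⟨-, es⟩ | ⟨a, -⟩
    · rw [es, one_mul] at e
      rcases proj_eq_one.1 (S.inj (e.trans (map_one ι).symm)) with h | h
      · exact h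
      · exact absurd (show x 0 ∈ D24 from h ▸ h1) (x_not_mem (by decide))
    · exact absurd h1 a
  refine
    { base := S.toX_x0
      mul := fun g h hg hh => S.toX_mul (hH hg) (hH hh)
      maps := fun g hg => by rw [toX_eq (hH hg)]; exact (S.sgn_d g).mul_left (S.comm _)
      inj := fun g h hg hh e => ?_ }
  have hm : g⁻¹ * h ∈ Hsub := mul_mem (inv_mem (hH hg)) (hH hh)
  have e' := S.toX_mul (hH hg) hm
  rw [mul_inv_cancel_left, ← e, left_eq_mul] at e'
  exact inv_mul_eq_one.1 (hone hm e')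

/-- The image of the presented Fi23 is in the image of the map. -/
theorem lift_iota (u : Cfsg.Spor.Fi23) : ∃ g, Commute g (x 0) ∧ toX ι d g = ι u := by
  obtain ⟨g, rfl⟩ := proj_surj u
  rcases sgn_cases (d := d) (g : G1) with ⟨-, e⟩ | ⟨a, -⟩
  · exact ⟨g, mem_H_iff.1 g.2, by rw [toX_eq g.2, e, one_mul]⟩
  · have hm : (g : G1) * x 0 ∈ Hsub := mul_mem g.2 l_mem
    refine ⟨_, mem_H_iff.1 hm, ?_⟩
    rw [toX_eq hm, show (⟨(g : G1) * x 0, hm⟩ : Hsub) = g * lH from rfl, map_mul,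
      show proj lH = 1 from proj_eq_one.2 (Or.inr rfl), mul_one]
    rcases sgn_cases (d := d) ((g : G1) * x 0) with ⟨-, e⟩ | ⟨b, -⟩
    · rw [e, one_mul]
    · exact absurd (mem_D24_mul a (by decide)) b

theorem lift_d_iota (u : Cfsg.Spor.Fi23) : ∃ g, Commute g (x 0) ∧ toX ι d g = d * ι u := by
  obtain ⟨g, hg, e⟩ := S.lift_iota u
  exact ⟨x 0 * g, (Commute.refl _).mul_left hg, by rw [S.toX_mul l_mem (mem_H_iff.2 hg), S.toX_x0, e]⟩

/-- A triangle going to the transposition and the second involution, times the outer involution. -/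
theorem base_triad : ∃ a a2, a ∈ perp D1 (x 0) ∧ a2 ∈ perp D1 (x 0) ∧ a2 ∈ perp D1 a ∧
    toX ι d a = d * t ∧ toX ι d a2 = d * t2 := by
  have P := S.twin
  obtain ⟨a, ha, hpa⟩ := exists_perp (IsConj.refl Cent23.delta23)
  obtain ⟨u2, hu2, hu2e⟩ := S.t2_mem
  obtain ⟨a2, ha2, hpa2⟩ := exists_perp hu2
  have hfa : toX ι d a = d * t := by rw [S.toX_perp ha, hpa, S.t_eq]
  have hfa2 : toX ι d a2 = d * t2 := by rw [S.toX_perp ha2, hpa2, hu2e]
  refine ⟨a, a2, ha, ha2, ⟨ha2.1, fun e => S.t2_ne ?_, (P.commute_iff ha.2.2.symm ha2.2.2.symm).1 ?_⟩, hfa, hfa2⟩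
  · exact mul_left_cancel (hfa2.symm.trans ((congrArg (toX ι d) e).trans hfa))
  · rw [hfa, hfa2]
    exact ((Commute.refl d).mul_left S.comm_t).mul_right ((hu2e ▸ S.comm u2).symm.mul_left S.t2_t.symm)

/-- What centralises a triangle through the outer involution is in the image. -/
theorem exists_lift {b c : G1} (hb : b ∈ perp D1 (x 0)) (hc : c ∈ perp D1 (x 0)) (hbc : c ∈ perp D1 b) {k : X}
    (kd : Commute k d) (kb : Commute k (toX ι d b)) (kc : Commute k (toX ι d c)) :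
    ∃ g, Commute g (x 0) ∧ toX ι d g = k := by
  have P := S.twin
  obtain ⟨d0, K⟩ := exists_data
  obtain ⟨a, a2, ha, ha2, ha2a, hfa, hfa2⟩ := S.base_triad
  have h0 : x 0 ∈ D1 := x_mem (by decide)
  obtain ⟨g, g0, gb, gc⟩ := K.tri_transitive (⟨ha, ha2, ha2a⟩ : Triad D1 (x 0) a a2) h0
    (⟨hb, hc, hbc⟩ : Triad D1 (x 0) b c) h0
  have hg : Commute g (x 0) := mul_inv_eq_iff_eq_mul.1 g0
  obtain ⟨G, hG⟩ : ∃ G, G = toX ι d g := ⟨_, rfl⟩
  have hGd : Commute G d := hG ▸ P.maps g hg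
  have pull : ∀ {v w : G1}, Commute v (x 0) → g * v * g⁻¹ = w → Commute k (toX ι d w) →
      Commute (G⁻¹ * k * G) (toX ι d v) := fun {v w} hv e hk => by
    rw [← Commute.conj_iff G, show G * (G⁻¹ * k * G) * G⁻¹ = k by group, hG, ← P.map_conj hg hv, e]
    exact hk
  obtain ⟨k', hk'⟩ : ∃ k', k' = G⁻¹ * k * G := ⟨_, rfl⟩
  have h1 : Commute k' d := hk' ▸ (hGd.inv_left.mul_left kd).mul_left hGd
  have hdd : ∀ {w : X}, Commute k' (d * w) → Commute k' w := fun {w} hw => by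
    have := h1.mul_right hw
    rwa [← mul_assoc, S.dd, one_mul] at this
  have h2 : Commute k' t := hdd (hfa ▸ hk' ▸ pull ha.2.2.symm gb kb)
  have h3 : Commute k' t2 := hdd (hfa2 ▸ hk' ▸ pull ha2.2.2.symm gc kc)
  have fin : ∀ {g' : G1}, Commute g' (x 0) → toX ι d g' = k' → ∃ g'', Commute g'' (x 0) ∧ toX ι d g'' = k :=
    fun {g'} hg' e => ⟨g * g' * g⁻¹, (hg.mul_left hg').mul_left hg.inv_left, by
      rw [P.map_conj hg hg', e, ← hG, hk']; group⟩
  by_cases hm : k' ∈ G₀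
  · obtain ⟨u, hu⟩ := S.pair k' hm h1 h2 h3
    obtain ⟨g', hg', e⟩ := S.lift_iota u
    exact fin hg' (e.trans hu)
  · obtain ⟨u2, -, hu2e⟩ := S.t2_mem
    obtain ⟨u, hu⟩ := S.pair (d * k') ((Subgroup.mul_mem_iff_of_index_two S.index).2 (iff_of_false S.d_out hm))
      ((Commute.refl d).mul_left h1) (S.comm_t.symm.mul_left h2) ((hu2e ▸ S.comm u2).symm.mul_left h3)
    obtain ⟨g', hg', e⟩ := S.lift_d_iota u
    exact fin hg' (by rw [e, hu, ← mul_assoc, S.dd, one_mul])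

end Side

end Cfsg.Lib.Fischer.Cent24
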