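import Cfsg.Agent.Lib.Fischer.M24Exist.Record

/-!
# The type goes along an isomorphism
-/

set_option autoImplicit false
set_option linter.unusedSectionVars false

namespace Cfsg.Lib.Fischer.Cent24

open Cfsg Cfsg.Lib.Fischer Cfsg.Lib.Fischer.Cent23
open Cfsg.Lib.Fischer.Fi22Type (map_center_equiv)

variable {A : Type*} [Group A] {B : Type*} [Group B]

/-- A normal subgroup with its quotient goes along an isomorphism. -/
theorem normal_map {A' B' C C' : Type*} [Group A'] [Group B'] [Group C] [Group C'] (f : A' ≃* B') (N : Subgroup A')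
    [N.Normal] (eN : N ≃* C) (eS : A' ⧸ N ≃* C') :
    ∃ (N' : Subgroup B') (_ : N'.Normal), Nonempty (N' ≃* C) ∧ Nonempty (B' ⧸ N' ≃* C') := by
  have hn : (N.map f.toMonoidHom).Normal := Subgroup.Normal.map ‹_› _ f.surjective
  exact ⟨N.map f.toMonoidHom, hn, ⟨(f.subgroupMap N).symm.trans eN⟩,
    ⟨(QuotientGroup.congr N (N.map f.toMonoidHom) f rfl).symm.trans eS⟩⟩

theorem type24_map (e : A ≃* B) {D : Set A} (h : Cfsg.IsOfTypeM24 A D) : Cfsg.IsOfTypeM24 B (e '' D) := by
  obtain ⟨hZ, a, ha, c, hc, hnc, h23, N, hNn, ⟨eN⟩, ⟨eS⟩⟩ := h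
  refine ⟨by rw [← map_center_equiv e, hZ, Subgroup.map_bot], e a, ⟨a, ha, rfl⟩, e c, ⟨c, hc, rfl⟩,
    fun h => hnc (e.injective (by rw [map_mul, map_mul]; exact h.eq)), ?_, ?_⟩
  · have hmap : (Subgroup.closure (perp D a)).map (e : A →* B) = Subgroup.closure (perp (e '' D) (e a)) := by
      rw [MonoidHom.map_closure]; exact congrArg _ (image_perp e D a)
    let f : ↥(Subgroup.closure (perp D a)) ≃* ↥(Subgroup.closure (perp (e '' D) (e a))) :=
      (e.subgroupMap (Subgroup.closure (perp D a))).trans (MulEquiv.subgroupCongr hmap)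
    let g := QuotientGroup.congr _ _ f (map_center_equiv f)
    have h' := M24Exist.type23_map g h23
    have himg : g '' ((QuotientGroup.mk : ↥(Subgroup.closure (perp D a)) → _) '' {x | (x : A) ∈ perp D a}) =
        (QuotientGroup.mk : ↥(Subgroup.closure (perp (e '' D) (e a))) → _) ''
          {x | (x : B) ∈ perp (e '' D) (e a)} := by
      ext u
      constructor
      · rintro ⟨_, ⟨x, hx, rfl⟩, rfl⟩
        exact ⟨f x, (Set.ext_iff.1 (image_perp e D a) _).1 ⟨_, hx, rfl⟩, rfl⟩
      · rintro ⟨y, hy, rfl⟩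
        obtain ⟨x, rfl⟩ := f.surjective y
        refine ⟨_, ⟨x, ?_, rfl⟩, rfl⟩
        obtain ⟨w, hw, he⟩ := (Set.ext_iff.1 (image_perp e D a) _).2 hy
        show (x : A) ∈ perp D a
        rwa [← e.injective (show e w = e (x : A) from he)]
    exact himg ▸ h'
  · obtain ⟨f⟩ := quot_image e (perp D a ∩ perp D c) (perp (e '' D) (e a) ∩ perp (e '' D) (e c))
      (by rw [Set.image_inter e.injective, image_perp, image_perp])
    exact @normal_map _ _ _ _ _ _ _ _ f N hNn eN eS

end Cfsg.Lib.Fischer.Cent24
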