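import Cfsg.Agent.Lib.Fischer.Cent24.Seed
import Cfsg.Agent.Lib.Fischer.TypeM24.Ext

/-!
# The transported maps agree on a triangle up to the outer involution
-/

set_option autoImplicit false
set_option maxRecDepth 100000
set_option linter.unusedSectionVars false

namespace Cfsg.Lib.Fischer.Cent24

open Cfsg Cfsg.Lib.Fischer Cfsg.Lib.Fischer.Relations Cfsg.Lib.Fischer.M24

local notation "G₁" => Cfsg.Spor.Fi24
local notation "D1" => Cfsg.Lib.BigPerm.Fi24.D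
local notation "D₁" => Cfsg.Lib.BigPerm.Fi24.D
local notation "d₁" => Cfsg.Lib.BigPerm.Fi24.x 0

attribute [local instance] fin24

/-- A neighbour of the first generator commuting with neither of two given ones. -/
theorem exists_far_pair {a b : G₁} (ha : a ∈ perp D1 d₁) (hb : b ∈ perp D1 d₁) :
    ∃ y ∈ perp D1 d₁, ¬ Commute a y ∧ ¬ Commute b y := by
  obtain ⟨d0, K⟩ := exists_data
  obtain ⟨g, hg⟩ := K.trans.trans d0 K.mem d₁ (x_mem (by decide))
  rw [← hg] at ha hb ⊢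
  obtain ⟨y, hy, h1, h2⟩ := exists_perp_far K ((mem_perp_conj K.trans g d0 a).1 ha) ((mem_perp_conj K.trans g d0 b).1 hb)
  refine ⟨g * y * g⁻¹, conj_perp K.fis g d0 hy, fun h => h1 ?_, fun h => h2 ?_⟩
  · rw [show a = g * (g⁻¹ * a * g) * g⁻¹ by group] at h
    exact (Commute.conj_iff g).1 h
  · rw [show b = g * (g⁻¹ * b * g) * g⁻¹ by group] at h
    exact (Commute.conj_iff g).1 h

variable {G₂ : Type*} [Group G₂] [Finite G₂] {G₀ : Subgroup G₂} {d₂ τ o τ₂ : G₂} {ι : Cfsg.Spor.Fi23 →* G₂}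

namespace Side

set_option maxHeartbeats 1600000 in
/-- Two routes around a triangle agree up to the outer involution. -/
theorem triangle (S' : Side G₀ d₂ τ o τ₂ ι) {φ : G₁ → G₂} (hφ : φ = toX ι d₂) {a : G₁} {t : G₁ × G₂}
    (S : Seed D₁ d₁ d₂ φ a t) {b : G₁} (hb : b ∈ perp D₁ d₁) (hab : b ∈ perp D₁ a) {g : G₁}
    (hga : Commute g a) (hgb : Commute g b) :
    ∃ h, Commute h d₁ ∧ h * a * h⁻¹ = b ∧ (φ h * lift φ t (h⁻¹ * g * h) * (φ h)⁻¹ = lift φ t g ∨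
      φ h * lift φ t (h⁻¹ * g * h) * (φ h)⁻¹ = d₂ * lift φ t g * d₂) := by
  subst hφ
  obtain ⟨φ, hφ⟩ : ∃ φ, φ = toX ι d₂ := ⟨_, rfl⟩
  rw [← hφ] at S ⊢
  obtain ⟨d0, K₁⟩ := exists_data
  have P := hφ ▸ S'.twin
  have hT := K₁.trans
  have h0 : d₁ ∈ D1 := x_mem (by decide)
  have ha := S.mem
  -- the element fixing `b` and exchanging `d` and `a`, up to the centralizer of both
  have hb₀ : t.1 * b * t.1 ∈ perp D₁ d₁ := by
    have := conj_perp K₁.fis t.1 a hab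
    rwa [S.inv₁, S.back₁] at this
  have hb₁ : t.1 * b * t.1 ∈ perp D₁ a := by
    have := conj_perp K₁.fis t.1 d₁ hb
    rwa [S.inv₁, S.move₁] at this
  obtain ⟨k, hk0, hk1, hkb⟩ := K₁.tri_transitive (⟨ha, hb₀, hb₁⟩ : Triad D₁ d₁ a (t.1 * b * t.1)) h0
    (⟨ha, hb, hab⟩ : Triad D₁ d₁ a b) h0
  have hkd : Commute k d₁ := mul_inv_eq_iff_eq_mul.1 hk0
  have hka : Commute k a := mul_inv_eq_iff_eq_mul.1 hk1
  -- the exchange of `a` and `b` fixing `d`
  obtain ⟨y, hy, hay, hby⟩ := exists_far_pair ha hb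
  obtain ⟨p, q, hpD, hqD, hp, hq, -, -, hh, hha, hhb⟩ :=
    swap_pair hT ha.1 hb.1 hy.1 hab.2.2 hab.2.1.symm hay hby
  have hpd : Commute p d₁ := hp ▸ ((hy.2.2.symm.mul_left ha.2.2.symm).mul_left hy.2.2.symm)
  have hqd : Commute q d₁ := hq ▸ ((hy.2.2.symm.mul_left hb.2.2.symm).mul_left hy.2.2.symm)
  obtain ⟨h, hhdef⟩ : ∃ h, h = p * q := ⟨_, rfl⟩
  rw [← hhdef] at hh hha hhb
  have hhd : Commute h d₁ := hhdef ▸ hpd.mul_left hqd
  have hhi : h⁻¹ = h := inv_eq_of_mul_eq_one_right hh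
  obtain ⟨H, hH⟩ : ∃ H : G₁ × G₂, H = (h, φ h) := ⟨_, rfl⟩
  have hφh : φ h * φ h = 1 := by rw [← P.mul _ _ hhd hhd, hh, P.map_one]
  have hHH : H * H = 1 := by rw [hH]; exact Prod.ext hh hφh
  obtain ⟨X, hX⟩ : ∃ X : G₁ × G₂, X = (k * t.1, φ k * t.2) := ⟨_, rfl⟩
  obtain ⟨M, hM⟩ : ∃ M : G₁ × G₂, M = X * H := ⟨_, rfl⟩
  have mv : ∀ x : G₁, X.1 * x * X.1⁻¹ = k * (t.1 * x * t.1) * k⁻¹ := fun x => by
    rw [hX, mul_inv_rev, S.inv₁]; group
  have Xd : X.1 * d₁ * X.1⁻¹ = a := by rw [mv, S.move₁, hka.eq, mul_inv_cancel_right]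
  have Xa : X.1 * a * X.1⁻¹ = d₁ := by rw [mv, S.back₁, hkd.eq, mul_inv_cancel_right]
  have Xb : X.1 * b * X.1⁻¹ = b := by rw [mv, hkb]
  have H1 : ∀ x : G₁, H.1 * x * H.1⁻¹ = h * x * h := fun x => by rw [hH]; show h * x * h⁻¹ = _; rw [hhi]
  have Hd : H.1 * d₁ * H.1⁻¹ = d₁ := by
    rw [hH]; show h * d₁ * h⁻¹ = d₁; rw [hhd.eq, mul_inv_cancel_right]
  have Ha : H.1 * a * H.1⁻¹ = b := by rw [H1, hha]
  have Hb : H.1 * b * H.1⁻¹ = a := by rw [H1, hhb]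
  have conj_comm : ∀ {u x x' g : G₁}, u * x * u⁻¹ = x' → Commute g x → Commute (u * g * u⁻¹) x' :=
    fun {u _ _ _} e hc => e ▸ (Commute.conj_iff u).2 hc
  have sX : ∀ x, Commute x d₁ → Commute x a → Str φ X x := fun x x1 x2 => by
    have e : X = (k, φ k) * t := by rw [hX]; rfl
    rw [e]
    refine Str.mul (S.str x x1 x2) (P.str_diag hkd ?_)
    rw [S.inv₁]
    exact S.to_d x2
  have sH : ∀ x, Commute x d₁ → Str φ H x := fun x hx => hH ▸ P.str_diag hhd hx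
  have sM : ∀ x, Commute x d₁ → Commute x b → Str φ M x := fun x x1 x3 => hM ▸ Str.mul (sH x x1)
    (sX _ (conj_comm Hd x1) (conj_comm Hb x3))
  have Mcyc : M.1 * d₁ * M.1⁻¹ = a ∧ M.1 * a * M.1⁻¹ = b ∧ M.1 * b * M.1⁻¹ = d₁ := by
    have e : ∀ x, M.1 * x * M.1⁻¹ = X.1 * (H.1 * x * H.1⁻¹) * X.1⁻¹ := fun x => by
      rw [hM]; simp only [Prod.fst_mul, mul_inv_rev, mul_assoc]
    exact ⟨by rw [e, Hd, Xd], by rw [e, Ha, Xb], by rw [e, Hb, Xa]⟩
  obtain ⟨Md, Ma, Mb⟩ := Mcyc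
  have mM : ∀ x, Commute x d₁ → Commute x a → Commute x b →
      Commute (M.1 * x * M.1⁻¹) d₁ ∧ Commute (M.1 * x * M.1⁻¹) a ∧ Commute (M.1 * x * M.1⁻¹) b :=
    fun x u v w => ⟨conj_comm Mb w, conj_comm Md u, conj_comm Ma v⟩
  obtain ⟨w, hw⟩ : ∃ w, w = M * M * M := ⟨_, rfl⟩
  have sw : ∀ x, Commute x d₁ → Commute x a → Commute x b → Str φ w x := fun x u v z => by
    obtain ⟨u', v', z'⟩ := mM x u v z
    have e : M * M * M = M * (M * M) := mul_assoc _ _ _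
    obtain ⟨u'', v'', z''⟩ := mM _ u' v' z'
    rw [hw, e]
    refine Str.mul (Str.mul (sM x u z) (sM _ u' z')) ?_
    rw [show (M * M).1 * x * (M * M).1⁻¹ = M.1 * (M.1 * x * M.1⁻¹) * M.1⁻¹ by
      simp only [Prod.fst_mul, mul_inv_rev, mul_assoc]]
    exact sM _ u'' z''
  have wfix : ∀ x, (x = d₁ ∨ x = a ∨ x = b) → Commute w.1 x := fun x hx => by
    refine mul_inv_eq_iff_eq_mul.1 ?_
    rw [hw, show (M * M * M).1 * x * (M * M * M).1⁻¹ = M.1 * (M.1 * (M.1 * x * M.1⁻¹) * M.1⁻¹) * M.1⁻¹ by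
      simp only [Prod.fst_mul, mul_inv_rev, mul_assoc]]
    rcases hx with rfl | rfl | rfl
    · rw [Md, Ma, Mb]
    · rw [Ma, Mb, Md]
    · rw [Mb, Md, Ma]
  have wd := wfix d₁ (Or.inl rfl)
  have wa := wfix a (Or.inr (Or.inl rfl))
  have wb := wfix b (Or.inr (Or.inr rfl))
  have hda : Commute d₁ a := ha.2.2
  have hdb : Commute d₁ b := hb.2.2
  obtain ⟨δ, hδ⟩ : ∃ δ, δ = (φ w.1)⁻¹ * w.2 := ⟨_, rfl⟩
  have δc : ∀ x, Commute x d₁ → Commute x a → Commute x b → Commute δ (φ x) := fun x u v z => by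
    refine mul_inv_eq_iff_eq_mul.1 ?_
    have e1 := sw x u v z
    rw [Str, P.map_conj wd u] at e1
    rw [hδ, show (φ w.1)⁻¹ * w.2 * φ x * ((φ w.1)⁻¹ * w.2)⁻¹ = (φ w.1)⁻¹ * (w.2 * φ x * w.2⁻¹) * φ w.1 by group,
      ← e1]
    group
  have hA := P.mem ha
  have hB := P.mem hb
  have hAB : φ b ∈ perp (φ '' perp D₁ d₁) (φ a) :=
    ⟨hB.1, fun e => hab.2.1 (P.inj _ _ hdb.symm hda.symm e), (P.commute_iff hda.symm hdb.symm).2 hab.2.2⟩
  have δd : Commute δ d₂ := P.base ▸ δc d₁ (Commute.refl _) hda hdb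
  have δa : Commute δ (φ a) := δc a hda.symm (Commute.refl _) hab.2.2
  have δb : Commute δ (φ b) := δc b hdb.symm hab.2.2.symm (Commute.refl _)
  obtain ⟨z', hz', ez'⟩ : ∃ z', Commute z' d₁ ∧ φ z' = δ := by
    rw [hφ] at δa δb ⊢
    exact S'.exists_lift ha hb hab δd δa δb
  have za : Commute z' a := (P.commute_iff hz' hda.symm).1 (ez'.symm ▸ δa)
  have zb : Commute z' b := (P.commute_iff hz' hdb.symm).1 (ez'.symm ▸ δb)
  obtain ⟨y', hy', hyz⟩ := Exchange.tri_center K₁ h0 (⟨ha, hb, hab⟩ : Triad D₁ d₁ a b) hz' za zb fun q u v r =>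
    (P.commute_iff hz' u).1 (ez'.symm ▸ δc q u v r)
  obtain ⟨y₂, hy₂, hδx⟩ : ∃ y₂, (y₂ = 1 ∨ y₂ = d₂ ∨ y₂ = φ a ∨ y₂ = d₂ * φ a) ∧ (δ = y₂ ∨ δ = y₂ * φ b) := by
    have hyc : Commute y' d₁ := by
      rcases hy' with e | e | e | e <;> rw [e] <;>
        first | exact Commute.one_left _ | exact Commute.refl _ | exact hda.symm | exact (Commute.refl _).mul_left hda.symm
    refine ⟨φ y', ?_, ?_⟩
    · rcases hy' with e | e | e | e <;> rw [e]
      · exact Or.inl P.map_one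
      · exact Or.inr (Or.inl P.base)
      · exact Or.inr (Or.inr (Or.inl rfl))
      · exact Or.inr (Or.inr (Or.inr (by rw [P.mul _ _ (Commute.refl _) hda.symm, P.base])))
    · rcases hyz with e | e
      · exact Or.inl (by rw [← ez', e])
      · exact Or.inr (by rw [← ez', e, P.mul _ _ hyc hdb.symm])
  have Md₂ : M.2 * d₂ * M.2⁻¹ = φ a := by
    rw [← P.base, ← Md, ← sM d₁ (Commute.refl _) hdb]
  have Ma₂ : M.2 * φ a * M.2⁻¹ = φ b := by
    rw [← Ma, ← sM a hda.symm hab.2.2]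
  have Mb₂ : M.2 * φ b * M.2⁻¹ = d₂ := by
    rw [← P.base, ← Mb, ← sM b hdb.symm (Commute.refl _)]
  have hMw : M.1 * w.1 * M.1⁻¹ = w.1 := by
    rw [hw]; simp only [Prod.fst_mul]; group
  have Mδ : M.2 * δ * M.2⁻¹ = δ := by
    have e1 : φ w.1 = M.2 * φ w.1 * M.2⁻¹ := by
      have := sM w.1 wd wb
      rwa [Str, hMw] at this
    rw [hδ, show M.2 * ((φ w.1)⁻¹ * w.2) * M.2⁻¹ = (M.2 * φ w.1 * M.2⁻¹)⁻¹ * (M.2 * w.2 * M.2⁻¹) by group, ← e1]
    congr 1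
    rw [hw]; simp only [Prod.snd_mul]; group
  have hconj : ∀ u v : G₂, M.2 * (u * v) * M.2⁻¹ = (M.2 * u * M.2⁻¹) * (M.2 * v * M.2⁻¹) := fun u v => by group
  have hδ1 : δ = 1 ∨ δ = d₂ * φ a * φ b := by
    have n1 : φ a ≠ d₂ := hA.2.1
    have n2 : φ b ≠ d₂ := hB.2.1
    have n3 : φ b ≠ φ a := hAB.2.1
    rcases hδx with e | e <;> rcases hy₂ with hx | hx | hx | hx <;> rw [hx] at e <;> rw [e] at Mδ
    · exact Or.inl e
    · rw [Md₂] at Mδ; exact absurd Mδ n1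
    · rw [Ma₂] at Mδ; exact absurd Mδ n3
    · rw [hconj, Md₂, Ma₂, hA.2.2.eq] at Mδ
      exact absurd (mul_left_cancel Mδ) n2
    · rw [one_mul, Mb₂] at Mδ; exact absurd Mδ.symm n2
    · rw [hconj, Md₂, Mb₂, ← hA.2.2.eq] at Mδ
      exact absurd (mul_left_cancel Mδ).symm n3
    · rw [hconj, Ma₂, Mb₂, hAB.2.2.eq] at Mδ
      exact absurd (mul_left_cancel Mδ).symm n1
    · exact Or.inr e
  -- the product of the triangle absorbs the ambiguity
  obtain ⟨e, ed, ea, eb, eδ, ee, econj⟩ : ∃ e : G₁, Commute e d₁ ∧ Commute e a ∧ Commute e b ∧ δ = φ e ∧ e * e = 1 ∧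
      (e = 1 ∨ e = d₁ * a * b) := by
    rcases hδ1 with h1 | h1
    · exact ⟨1, Commute.one_left _, Commute.one_left _, Commute.one_left _, by rw [h1, P.map_one], one_mul 1, Or.inl rfl⟩
    · refine ⟨d₁ * a * b, ((Commute.refl _).mul_left hda.symm).mul_left hdb.symm,
        (hda.mul_left (Commute.refl _)).mul_left hab.2.2.symm, (hdb.mul_left hab.2.2).mul_left (Commute.refl _), ?_,
        ?_, Or.inr rfl⟩
      · rw [h1, P.mul _ _ ((Commute.refl _).mul_left hda.symm) hdb.symm, P.mul _ _ (Commute.refl _) hda.symm, P.base]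
      · rw [show d₁ * a * b * (d₁ * a * b) = d₁ * a * (b * (d₁ * a)) * b by group,
          ((hdb.mul_left hab.2.2).symm).eq, show d₁ * a * (d₁ * a * b) * b = d₁ * (a * d₁) * a * (b * b) by group,
          ← hda.eq, Fischer.mul_self hT hb.1, mul_one, show d₁ * (d₁ * a) * a = d₁ * d₁ * (a * a) by group,
          Fischer.mul_self hT h0, Fischer.mul_self hT ha.1, one_mul]
  have hw2 : w.2 = φ (w.1 * e) := by
    rw [P.mul _ _ wd ed, ← eδ, hδ, mul_inv_cancel_left]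
  -- the square of the first element
  obtain ⟨u, hu⟩ : ∃ u, u = X * X := ⟨_, rfl⟩
  have ku : Commute (t.1 * k * t.1) d₁ := S.to_d hka
  have ud : Commute u.1 d₁ := by
    rw [hu, hX]; simp only [Prod.fst_mul]
    rw [show k * t.1 * (k * t.1) = k * (t.1 * k * t.1) by group]
    exact hkd.mul_left ku
  have ub : Commute u.1 b := by
    refine mul_inv_eq_iff_eq_mul.1 ?_
    rw [hu, show (X * X).1 * b * (X * X).1⁻¹ = X.1 * (X.1 * b * X.1⁻¹) * X.1⁻¹ by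
      simp only [Prod.fst_mul, mul_inv_rev, mul_assoc], Xb, Xb]
  have hu2 : u.2 = φ u.1 := by
    rw [hu, hX]; simp only [Prod.fst_mul, Prod.snd_mul]
    rw [show k * t.1 * (k * t.1) = k * (t.1 * k * t.1) by group, P.mul _ _ hkd ku, S.apply hkd hka]
    group
  -- the route
  have hHi : H⁻¹ = H := inv_eq_of_mul_eq_one_right hHH
  obtain ⟨W, hW⟩ : ∃ W : G₁ × G₂, W = (w.1 * e, w.2) := ⟨_, rfl⟩
  have route : (H * X)⁻¹ * X = H * X * H * w⁻¹ * u := by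
    rw [hw, hM, hu, mul_inv_rev, hHi]
    simp only [mul_inv_rev, hHi, mul_assoc]
    simp only [← mul_assoc]
    simp [hHH, mul_assoc]
  have ei : e⁻¹ = e := inv_eq_of_mul_eq_one_right ee
  have hHe : H.1 * e * H.1⁻¹ = e := by
    rcases econj with h1 | h1 <;> rw [h1]
    · group
    · rw [show H.1 * (d₁ * a * b) * H.1⁻¹ = H.1 * d₁ * H.1⁻¹ * (H.1 * a * H.1⁻¹) * (H.1 * b * H.1⁻¹) by group,
        Hd, Ha, Hb, mul_assoc, ← hab.2.2.eq, ← mul_assoc]
  have hXe : X.1 * e * X.1⁻¹ = e := by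
    rcases econj with h1 | h1 <;> rw [h1]
    · group
    · rw [show X.1 * (d₁ * a * b) * X.1⁻¹ = X.1 * d₁ * X.1⁻¹ * (X.1 * a * X.1⁻¹) * (X.1 * b * X.1⁻¹) by group,
        Xd, Xa, Xb, hda.eq]
  obtain ⟨R, hR⟩ : ∃ R : G₁ × G₂, R = H * (X * (H * (W⁻¹ * u))) := ⟨_, rfl⟩
  have route' : (H * X)⁻¹ * X = (e, 1) * R := by
    rw [route, hR]
    have h1 : (e, (1 : G₂)) * W⁻¹ = w⁻¹ := by
      rw [hW]
      refine Prod.ext ?_ ?_
      · show e * (w.1 * e)⁻¹ = w.1⁻¹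
        rw [mul_inv_rev, mul_inv_cancel_left]
      · show 1 * w.2⁻¹ = w.2⁻¹
        rw [one_mul]
    have h2 : ∀ Z : G₁ × G₂, Z.1 * e * Z.1⁻¹ = e → Z * (e, 1) = (e, 1) * Z := fun Z hZ => by
      refine Prod.ext ?_ ?_
      · show Z.1 * e = e * Z.1
        exact mul_inv_eq_iff_eq_mul.1 hZ
      · show Z.2 * 1 = 1 * Z.2
        rw [one_mul, mul_one]
    rw [← h1]
    simp only [← mul_assoc]
    rw [mul_assoc (H * X) H, h2 H hHe, ← mul_assoc, mul_assoc H X, h2 X hXe, ← mul_assoc, h2 H hHe]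
  refine ⟨h * k, hhd.mul_left hkd, ?_, ?_⟩
  · rw [show h * k * a * (h * k)⁻¹ = h * (k * a * k⁻¹) * h⁻¹ by group, hka.eq, mul_inv_cancel_right, hhi, hha]
  · obtain ⟨g', hg'⟩ : ∃ g', g' = X.1⁻¹ * g * X.1 := ⟨_, rfl⟩
    have hg : g = X.1 * g' * X.1⁻¹ := by rw [hg']; group
    have g'd : Commute g' d₁ := by
      rw [← Commute.conj_iff X.1, Xd, ← hg]; exact hga
    have g'b : Commute g' b := by
      rw [← Commute.conj_iff X.1, Xb, ← hg]; exact hgb
    have Wd : Commute W.1 d₁ := by rw [hW]; exact wd.mul_left ed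
    have Wb : Commute W.1 b := by rw [hW]; exact wb.mul_left eb
    have hW2 : W = (W.1, φ W.1) := Prod.ext rfl (by rw [hW]; exact hw2)
    have g1 : Commute (u.1 * g' * u.1⁻¹) d₁ ∧ Commute (u.1 * g' * u.1⁻¹) b :=
      ⟨(ud.mul_left g'd).mul_left ud.inv_left, (ub.mul_left g'b).mul_left ub.inv_left⟩
    have g2 : Commute (W.1⁻¹ * (u.1 * g' * u.1⁻¹) * W.1) d₁ ∧ Commute (W.1⁻¹ * (u.1 * g' * u.1⁻¹) * W.1) b :=
      ⟨(Wd.inv_left.mul_left g1.1).mul_left Wd, (Wb.inv_left.mul_left g1.2).mul_left Wb⟩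
    have v2 : (W⁻¹ * u).1 * g' * (W⁻¹ * u).1⁻¹ = W.1⁻¹ * (u.1 * g' * u.1⁻¹) * W.1 := by
      simp only [Prod.fst_mul, Prod.fst_inv, mul_inv_rev, inv_inv, mul_assoc]
    have v3 : ∀ (A B : G₁ × G₂), (A * B).1 * g' * (A * B).1⁻¹ = A.1 * (B.1 * g' * B.1⁻¹) * A.1⁻¹ := fun A B => by
      simp only [Prod.fst_mul, mul_inv_rev, mul_assoc]
    have g3 := conj_comm Xa (conj_comm Hb g2.2)
    have g4 := conj_comm Hd g3
    have sN : Str φ R g' ∧ Commute (R.1 * g' * R.1⁻¹) d₁ := by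
      have su : Str φ u g' := by
        rw [show u = (u.1, φ u.1) from Prod.ext rfl hu2]; exact P.str_diag ud g'd
      have swi : Str φ W⁻¹ (u.1 * g' * u.1⁻¹) := by
        rw [show W⁻¹ = (W.1⁻¹, φ W.1⁻¹) from Prod.ext rfl (by rw [Prod.snd_inv, P.map_inv Wd]; exact congrArg Inv.inv (congrArg Prod.snd hW2))]
        exact P.str_diag Wd.inv_left g1.1
      refine ⟨hR ▸ Str.mul (Str.mul (Str.mul (Str.mul su swi) ?_) ?_) ?_, ?_⟩
      · rw [v2]; exact sH _ g2.1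
      · rw [v3, v2]; exact sX _ (conj_comm Hd g2.1) (conj_comm Hb g2.2)
      · rw [v3, v3, v2]; exact sH _ g3
      · rw [hR, v3, v3, v3, v2]; exact g4
    have hhk : t.1 * ((h * k)⁻¹ * g * (h * k)) * t.1 = e * (R.1 * g' * R.1⁻¹) * e := by
      have h1 : ((H * X)⁻¹ * X).1 * g' * ((H * X)⁻¹ * X).1⁻¹ = e * (R.1 * g' * R.1⁻¹) * e := by
        rw [route']
        simp only [Prod.fst_mul, mul_inv_rev, ei, mul_assoc]
      rw [← h1, show ((H * X)⁻¹ * X).1 * g' * ((H * X)⁻¹ * X).1⁻¹ = (H * X).1⁻¹ * (X.1 * g' * X.1⁻¹) * (H * X).1 by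
        simp only [Prod.fst_mul, Prod.fst_inv, mul_inv_rev, inv_inv, mul_assoc], ← hg, hH, hX]
      simp only [Prod.fst_mul, mul_inv_rev, S.inv₁]
      group
    obtain ⟨hkk, hhkd⟩ : ∃ hkk, hkk = h * k ∧ Commute hkk d₁ := ⟨_, rfl, hhd.mul_left hkd⟩
    obtain ⟨D', hD'⟩ : ∃ D', D' = φ (h * k) * (t.2 * φ e * t.2) * (φ (h * k))⁻¹ := ⟨_, rfl⟩
    have hDe : D' = φ e := by
      have h1 : Commute (t.1 * e * t.1) d₁ := S.to_d ea
      rw [hD', ← S.apply ed ea, ← P.map_conj (hhd.mul_left hkd) h1]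
      refine congrArg φ ?_
      rcases econj with h2 | h2 <;> rw [h2]
      · rw [mul_one, S.sq₁]; group
      · have c1 : t.1 * (d₁ * a * b) * t.1 = a * d₁ * (t.1 * b * t.1) := by
          calc t.1 * (d₁ * a * b) * t.1 = (t.1 * d₁ * t.1) * (t.1 * a * t.1) * (t.1 * b * t.1) := by
                rw [show t.1 * d₁ * t.1 * (t.1 * a * t.1) * (t.1 * b * t.1) =
                  t.1 * d₁ * (t.1 * t.1) * a * (t.1 * t.1) * b * t.1 by group, S.sq₁]
                group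
            _ = a * d₁ * (t.1 * b * t.1) := by rw [S.move₁, S.back₁]
        rw [c1, show h * k * (a * d₁ * (t.1 * b * t.1)) * (h * k)⁻¹ =
          h * (k * a * k⁻¹) * h⁻¹ * (h * (k * d₁ * k⁻¹) * h⁻¹) * (h * (k * (t.1 * b * t.1) * k⁻¹) * h⁻¹) by group,
          hka.eq, mul_inv_cancel_right, hkd.eq, mul_inv_cancel_right, hhd.eq, mul_inv_cancel_right, hkb, hhi, hha,
          hhb, ← hdb.eq, mul_assoc, ← hab.2.2.eq, ← mul_assoc]
    have hLg : lift φ t g = X.2 * φ g' * X.2⁻¹ := by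
      have e1 : lift φ t g = φ k * lift φ t (k⁻¹ * g * k) * (φ k)⁻¹ := by
        rw [← P.lift_conj S hkd hka ((hka.inv_left.mul_left hga).mul_left hka)]
        congr 1
        group
      rw [e1, lift, hg', hX]
      simp only [mul_inv_rev, S.inv₂, S.inv₁]
      simp only [mul_assoc]
    have hR2 : R.2 = ((H * X)⁻¹ * X).2 := by rw [route']; simp
    have key : φ (h * k) * lift φ t ((h * k)⁻¹ * g * (h * k)) * (φ (h * k))⁻¹ = D' * lift φ t g * D' := by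
      rw [hLg, lift, hhk, P.mul _ _ (ed.mul_left sN.2) ed, P.mul _ _ ed sN.2, sN.1, hD', P.mul _ _ hhd hkd, hR2,
        hH, hX]
      simp only [Prod.snd_mul, Prod.snd_inv, mul_inv_rev, inv_inv, S.inv₂, mul_assoc, inv_mul_cancel_left,
        S.sq₂, mul_one, one_mul]
    rw [key, hDe]
    rcases econj with h2 | h2 <;> rw [h2]
    · left; rw [P.map_one, one_mul, mul_one]
    · right
      have cL : ∀ v, Commute v a → lift φ t v = φ v → Commute g v → Commute (φ v) (lift φ t g) := fun v va hv hgv => by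
        rw [← hv]
        show lift φ t v * lift φ t g = lift φ t g * lift φ t v
        rw [← P.lift_mul S va hga, ← P.lift_mul S hga va, hgv.eq]
      have ca : Commute (φ a) (lift φ t g) := cL a (Commute.refl _) (S.fix hda.symm (Commute.refl _)) hga
      have cb : Commute (φ b) (lift φ t g) := cL b hab.2.2.symm (S.fix hdb.symm hab.2.2.symm) hgb
      have hsqab : φ a * φ b * (φ a * φ b) = 1 := by
        rw [← P.mul _ _ hda.symm hdb.symm, ← P.mul _ _ (hda.symm.mul_left hdb.symm) (hda.symm.mul_left hdb.symm),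
          hab.2.2.symm.mul_mul_mul_comm, Fischer.mul_self hT ha.1, Fischer.mul_self hT hb.1, one_mul, P.map_one]
      have cd : Commute (φ a * φ b) d₂ := (P.maps a hda.symm).mul_left (P.maps b hdb.symm)
      rw [P.mul _ _ ((Commute.refl _).mul_left hda.symm) hdb.symm, P.mul _ _ (Commute.refl _) hda.symm, P.base,
        mul_assoc d₂ (φ a) (φ b), mul_assoc d₂, (ca.mul_left cb).eq,
        show d₂ * (lift φ t g * (φ a * φ b)) * (d₂ * (φ a * φ b)) =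
          d₂ * lift φ t g * (φ a * φ b * d₂) * (φ a * φ b) by group, cd.eq,
        show d₂ * lift φ t g * (d₂ * (φ a * φ b)) * (φ a * φ b) =
          d₂ * lift φ t g * d₂ * (φ a * φ b * (φ a * φ b)) by group, hsqab, mul_one]

end Side

end Cfsg.Lib.Fischer.Cent24
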