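import Cfsg.Agent.Lib.Fischer.Cent24.Far

/-!
# The relations of the presentation in the group with such an outer involution
-/

set_option autoImplicit false
set_option maxRecDepth 100000

open scoped Pointwise

namespace Cfsg.Lib.Fischer.Cent24

open Cfsg Cfsg.Lib.CosetEnum Cfsg.Lib.BigPerm Cfsg.Lib.BigPerm.Fi24 Cfsg.Lib.BigPerm.Fi24Cert
open Cfsg.Lib.Fischer Cfsg.Lib.Fischer.Relations Cfsg.Lib.Fischer.M24

local notation "G1" => Cfsg.Spor.Fi24
local notation "D1" => Cfsg.Lib.BigPerm.Fi24.D
local notation "x" => Cfsg.Lib.BigPerm.Fi24.x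
local notation "nets" => Fi24Net.nets
local notation "p22list" => ([0, 1, 2, 3, 4, 5, 6, 7, 10, 11] : List ℕ)

attribute [local instance] fin24
attribute [local irreducible] point runW

/-- The letters other than the second. -/
def hLetters (w : List ℕ) : Prop := ∀ g ∈ w, g < 12 ∧ g ≠ 1

set_option maxHeartbeats 1000000 in
/-- What the checks of a step say in the model. -/
theorem step_facts {h h0 fw h1 : List ℕ} {T q : ℕ} (hl : lettersStep (h, h0, fw, h1) = true)
    (e1 : Nat.beq (runW nets h o6) T = true) (e2 : Nat.beq (runW nets (h0 ++ fw) o6) T = true)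
    (e3 : Nat.beq (runW nets h (point 1)) (point q) = true)
    (e4 : Nat.beq (runW nets (h0 ++ fw) (point 1)) (point q) = true)
    (e5 : Nat.beq (runW nets (h0 ++ [1]) (point 1)) (runW nets h1 (point 1)) = true) :
    (wordVal x (h0 ++ fw))⁻¹ * wordVal x h ∈ Bsub ∧
      (wordVal x h1 * x 1)⁻¹ * (x 1 * wordVal x h0 * x 1) ∈ subW h220Words := by
  simp only [lettersStep, Bool.and_eq_true] at hl
  obtain ⟨⟨⟨l1, l2⟩, l3⟩, l4⟩ := hl
  have lt : ∀ {U : List (List ℕ)} {w : List ℕ}, overOK U w = true → ∀ g ∈ w, g < 15 := by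
    intro U w hw g hg
    have := List.all_eq_true.1 hw g hg
    rw [Bool.and_eq_true, Nat.blt_eq] at this
    omega
  have lt12 : ∀ {U : List (List ℕ)} {w : List ℕ}, overOK U w = true → ∀ g ∈ w, g < 12 := by
    intro U w hw g hg
    have := List.all_eq_true.1 hw g hg
    rw [Bool.and_eq_true, Nat.blt_eq] at this
    exact this.1
  have m1 : wordVal x h ∈ Hsub := mem_subW_of_over l1
  have m0 : wordVal x h0 ∈ subW h220Words := mem_subW_of_over l2
  have mf : wordVal x fw ∈ Bsub := mem_subW_of_over l3
  have m2 : wordVal x h1 ∈ subW h220Words := mem_subW_of_over l4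
  have ltc : ∀ g ∈ h0 ++ fw, g < 15 := fun g hg =>
    (List.mem_append.1 hg).elim (lt l2 g) (lt l3 g)
  have ltc12 : ∀ g ∈ h0 ++ fw, g < 12 := fun g hg =>
    (List.mem_append.1 hg).elim (lt12 l2 g) (lt12 l3 g)
  have hs : f (wordVal x h) • sixSet = f (wordVal x (h0 ++ fw)) • sixSet := by
    rw [smul_eq_image, smul_eq_image, f_word (lt12 l1), f_word ltc12, sixSet,
      pts_eq_of_eq lens_ok range_ok (by decide) (lt l1) e1,
      pts_eq_of_eq lens_ok range_ok (by decide) ltc e2]
  have hp : f (wordVal x h) pk = f (wordVal x (h0 ++ fw)) pk := by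
    rw [f_word (lt12 l1), f_word ltc12]
    have a1 := pts_eq_of_eq (n := 306936) lens_ok range_ok (k := 15) (by decide) (lt l1) e3
    have a2 := pts_eq_of_eq (n := 306936) lens_ok range_ok (k := 15) (by decide) ltc e4
    have a3 := a1.trans a2.symm
    rw [show point 1 = point pk.1 from rfl, pts_point, Set.image_singleton, Set.image_singleton,
      Set.singleton_eq_singleton_iff] at a3
    exact a3
  refine ⟨?_, ?_⟩
  · refine mem_Bsub (mul_mem (inv_mem ?_) m1) ?_ ?_
    · rw [wordVal_append]
      exact mul_mem (B_le mf) (h22_le m0)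
    · rw [map_mul, map_inv, Equiv.Perm.mul_apply, hp]
      simp
    · rw [map_mul, map_inv, mul_smul, hs, inv_smul_smul]
  · refine stab22 (mul_mem (inv_mem (mul_mem (h22_le_p22 m2) x1_mem))
      (mul_mem (mul_mem x1_mem (h22_le_p22 m0)) x1_mem)) ?_
    have lt1 : ∀ g ∈ h0 ++ [1], g < 15 := fun g hg => by
      rcases List.mem_append.1 hg with hg | hg
      · exact lt l2 g hg
      · rw [List.mem_singleton] at hg; omega
    have lt1' : ∀ g ∈ h0 ++ [1], g < 12 := fun g hg => by
      rcases List.mem_append.1 hg with hg | hg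
      · exact lt12 l2 g hg
      · rw [List.mem_singleton] at hg; omega
    have hk : f (wordVal x (h0 ++ [1])) pk = f (wordVal x h1) pk := by
      rw [f_word lt1', f_word (lt12 l4)]
      have a1 := pts_runW (n := 306936) lens_ok range_ok (k := 15) (by decide) lt1 (point 1)
      have a2 := pts_runW (n := 306936) lens_ok range_ok (k := 15) (by decide) (lt l4) (point 1)
      rw [Nat.eq_of_beq_eq_true e5, a2] at a1
      rw [show point 1 = point pk.1 from rfl, pts_point, Set.image_singleton, Set.image_singleton,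
        Set.singleton_eq_singleton_iff] at a1
      exact a1.symm
    rw [wordVal_append, Fi24.wordVal_one (by decide), map_mul, Equiv.Perm.mul_apply] at hk
    simp only [map_mul, map_inv, Equiv.Perm.mul_apply, mul_inv_rev, f_x1_pk, hk]
    simp only [Equiv.Perm.inv_def, Equiv.symm_apply_apply]
    rw [← f_x1_pk]
    simp

/-- Every relator of the graph lives in one of three places. -/
theorem pairs24 : ∀ r ∈ numbering.pairs, (∀ g ∈ r, g < 12 ∧ g ≠ 1) ∨ (∀ g ∈ r, g ∈ p22list) ∨
    ∃ g ∈ ([8, 9] : List ℕ), r = (List.replicate 2 [g, 1]).flatten ∨ r = (List.replicate 2 [1, g]).flatten := by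
  decide +kernel

theorem p22_nine {g : ℕ} (hg : g ∈ p22list) : g < 12 ∧ Commute (x g) (x 9) :=
  ⟨(show ∀ g ∈ p22list, g < 12 by decide) g hg, (x_comm (by decide) ((show ∀ g ∈ p22list, g < 12 by decide) g hg)
    ((show ∀ g ∈ p22list, [g, 9, g, 9] ∈ numbering.pairs by decide +kernel) g hg)).symm⟩

theorem h220_nine {k : G1} (hk : k ∈ subW h220Words) : Commute k (x 9) := by
  induction hk using Subgroup.closure_induction with
  | mem y hy =>
    obtain ⟨w, hw, rfl⟩ := hy
    obtain ⟨g, hg, rfl⟩ := (show ∀ w ∈ h220Words, ∃ g ∈ p22list, [g] = w by decide +kernel) w hw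
    rw [Fi24.wordVal_one (by simp only [eps]; have := (p22_nine hg).1; omega)]
    exact (p22_nine hg).2
  | one => exact Commute.one_left _
  | mul y z _ _ ihy ihz => exact ihy.mul_left ihz
  | inv y _ ih => exact ih.inv_left

namespace Side

variable {X : Type*} [Group X] [Finite X] {G₀ : Subgroup X} {d τ o τ₂ : X} {ι : Cfsg.Spor.Fi23 →* X}
  {a : G1} {r : G1 × X}

/-- The images of the generators. -/
noncomputable def img (ι : Cfsg.Spor.Fi23 →* X) (d u : X) (g : ℕ) : X :=
  if g = 1 then u else if g < 12 then toX ι d (x g) else 1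

/-- The second generator's image and what it does. -/
structure Second (ι : Cfsg.Spor.Fi23 →* X) (d : X) (r : G1 × X) (a m : G1) (u : X) : Prop where
  m0 : Commute m (x 0)
  em : m * a * m⁻¹ = x 9
  eq : u = via ι d r m (x 1)
  sq : u * u = 1
  fix : ∀ τ' ∈ Lsub, Commute u (toX ι d τ')

variable (S : Side G₀ d τ o τ₂ ι) (Sd : Seed D1 (x 0) d (toX ι d) a r) {m : G1} {u : X}
  (U : Second ι d r a m u)
include S Sd U

omit Sd in
theorem img_sq (g : ℕ) : img ι d u g * img ι d u g = 1 := by
  rw [img]
  split_ifs with h1 h2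
  · exact U.sq
  · rw [← S.twin.mul _ _ (mem_H_iff.1 (x_mem_Hsub h2 h1)) (mem_H_iff.1 (x_mem_Hsub h2 h1)), x_mul_self,
      S.twin.map_one]
  · exact one_mul 1

omit Sd in
theorem val_H : ∀ w : List ℕ, hLetters w →
    wordVal x w ∈ Hsub ∧ wordVal (img ι d u) w = toX ι d (wordVal x w)
  | [], _ => ⟨one_mem _, S.twin.map_one.symm⟩
  | g :: w, h => by
    obtain ⟨hg, h1⟩ := h g (by simp)
    obtain ⟨hw, e⟩ := val_H w fun g hg => h g (List.mem_cons_of_mem _ hg)
    have hne : g ≠ eps := by simp only [eps]; omega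
    simp only [wordVal, CosetEnum.gen, hne, if_false]
    refine ⟨mul_mem hw (x_mem_Hsub hg h1), ?_⟩
    rw [e, S.toX_mul hw (x_mem_Hsub hg h1)]
    congr 1
    rw [img, if_neg h1, if_pos hg]

theorem via_img {g : ℕ} (hg : g ∈ p22list) : via ι d r m (x g) = img ι d u g := by
  obtain ⟨hlt, hc⟩ := p22_nine hg
  by_cases h1 : g = 1
  · subst h1; rw [img, if_pos rfl, U.eq]
  · rw [img, if_neg h1, if_pos hlt, via_fix S Sd U.m0 U.em (mem_H_iff.1 (x_mem_Hsub hlt h1)) hc]

theorem val_P : ∀ w : List ℕ, (∀ g ∈ w, g ∈ p22list) →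
    Commute (wordVal x w) (x 9) ∧ wordVal (img ι d u) w = via ι d r m (wordVal x w)
  | [], _ => ⟨Commute.one_left _, by
      show (1 : X) = via ι d r m 1
      rw [via_fix S Sd U.m0 U.em (Commute.one_left _) (Commute.one_left _), S.twin.map_one]⟩
  | g :: w, h => by
    have hg := h g (by simp)
    obtain ⟨hw, e⟩ := val_P w fun g hg => h g (List.mem_cons_of_mem _ hg)
    obtain ⟨hlt, hc⟩ := p22_nine hg
    have hne : g ≠ eps := by simp only [eps]; omega
    simp only [wordVal, CosetEnum.gen, hne, if_false]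
    refine ⟨hw.mul_left hc, ?_⟩
    rw [e, via_mul S Sd U.em hw hc, via_img S Sd U hg]

omit Sd in
theorem u_comm_B {β : G1} (hβ : β ∈ Bsub) : Commute u (toX ι d β) := U.fix β (B_le_L hβ)

/-- A pair of words followed in the model and in the group. -/
def Follow (ι : Cfsg.Spor.Fi23 →* X) (d u : X) (g : G1) (g' : X) (cur e : List ℕ) : Prop :=
  ∃ k ∈ Hsub, g * wordVal x cur * x 1 = wordVal x e * x 1 * k ∧
    g' * wordVal (img ι d u) cur * u = wordVal (img ι d u) e * u * toX ι d k

set_option maxHeartbeats 1000000 in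
theorem step_follow {h h0 fw h1 : List ℕ} {T q : ℕ} (hl : lettersStep (h, h0, fw, h1) = true)
    (e1 : Nat.beq (runW nets h o6) T = true) (e2 : Nat.beq (runW nets (h0 ++ fw) o6) T = true)
    (e3 : Nat.beq (runW nets h (point 1)) (point q) = true)
    (e4 : Nat.beq (runW nets (h0 ++ fw) (point 1)) (point q) = true)
    (e5 : Nat.beq (runW nets (h0 ++ [1]) (point 1)) (runW nets h1 (point 1)) = true) :
    Follow ι d u (x 1) u h (h1 ++ fw) := by
  obtain ⟨hB, hk⟩ := step_facts hl e1 e2 e3 e4 e5
  simp only [lettersStep, Bool.and_eq_true] at hl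
  obtain ⟨⟨⟨l1, l2⟩, l3⟩, l4⟩ := hl
  have hlet : ∀ {V : List (List ℕ)} {w : List ℕ}, overOK V w = true → (V.all fun v => overOK bigWords v) = true →
      hLetters w := by
    intro V w hw hV g hg
    have h1' := List.all_eq_true.1 hw g hg
    rw [Bool.and_eq_true, Nat.blt_eq] at h1'
    obtain ⟨v, hv, hb⟩ := List.any_eq_true.1 h1'.2
    have hv' := List.all_eq_true.1 (List.all_eq_true.1 hV v hv) g (by rw [beqW_eq hb]; simp)
    rw [Bool.and_eq_true] at hv'
    obtain ⟨z, hz, hz'⟩ := List.any_eq_true.1 hv'.2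
    exact ⟨h1'.1, fun e => (show ∀ z ∈ bigWords, z ≠ [1] by decide) z hz (by rw [beqW_eq hz', e])⟩
  have P := S.twin
  obtain ⟨mh, eh⟩ := val_H S U h (hlet l1 (by decide +kernel))
  obtain ⟨m0, eh0⟩ := val_H S U h0 (hlet l2 (by decide +kernel))
  obtain ⟨mf, ef⟩ := val_H S U fw (hlet l3 (by decide +kernel))
  obtain ⟨m1, eh1⟩ := val_H S U h1 (hlet l4 (by decide +kernel))
  have hfB : wordVal x fw ∈ Bsub := mem_subW_of_over l3
  obtain ⟨β, hβdef⟩ : ∃ β, β = (wordVal x (h0 ++ fw))⁻¹ * wordVal x h := ⟨_, rfl⟩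
  obtain ⟨k, hkdef⟩ : ∃ k, k = (wordVal x h1 * x 1)⁻¹ * (x 1 * wordVal x h0 * x 1) := ⟨_, rfl⟩
  rw [← hβdef] at hB
  rw [← hkdef] at hk
  have hh : wordVal x h = wordVal x fw * wordVal x h0 * β := by
    rw [hβdef, wordVal_append]; group
  have hkey : x 1 * wordVal x h0 * x 1 = wordVal x h1 * x 1 * k := by rw [hkdef]; group
  have cβ := mem_Lsub.1 (B_le_L hB)
  have cf := mem_Lsub.1 (B_le_L hfB)
  -- the step in the image of the centraliser of the tenth
  have ekey : u * toX ι d (wordVal x h0) * u = toX ι d (wordVal x h1) * u * toX ι d k := by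
    have c0 : Commute (wordVal x h0) (x 9) := h220_nine (mem_subW_of_over l2)
    have c1 : Commute (wordVal x h1) (x 9) := h220_nine (mem_subW_of_over l4)
    have ck := h220_nine hk
    have cx : Commute (x 1) (x 9) := (nine_comm_one (g := 9) (by decide)).symm
    have := congrArg (via ι d r m) hkey
    rwa [via_mul S Sd U.em (cx.mul_left c0) cx, via_mul S Sd U.em cx c0, via_mul S Sd U.em (c1.mul_left cx) ck,
      via_mul S Sd U.em c1 cx, ← U.eq, via_fix S Sd U.m0 U.em (mem_H_iff.1 m0) c0,
      via_fix S Sd U.m0 U.em (mem_H_iff.1 m1) c1,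
      via_fix S Sd U.m0 U.em (mem_H_iff.1 (h22_le hk)) ck] at this
  refine ⟨k * β, mul_mem (h22_le hk) (B_le hB), ?_, ?_⟩
  · calc x 1 * wordVal x h * x 1 = (x 1 * wordVal x fw) * wordVal x h0 * (β * x 1) := by rw [hh]; group
      _ = wordVal x fw * (x 1 * wordVal x h0 * x 1) * β := by rw [cf.2.symm.eq, cβ.2.eq]; group
      _ = wordVal x (h1 ++ fw) * x 1 * (k * β) := by rw [hkey, wordVal_append]; group
  · have ehv : toX ι d (wordVal x h) = toX ι d (wordVal x fw) * toX ι d (wordVal x h0) * toX ι d β := by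
      rw [hh, S.toX_mul (mul_mem mf m0) (B_le hB), S.toX_mul mf m0]
    rw [eh, ehv, wordVal_append, ef, eh1, S.toX_mul (h22_le hk) (B_le hB)]
    calc u * (toX ι d (wordVal x fw) * toX ι d (wordVal x h0) * toX ι d β) * u
        = (u * toX ι d (wordVal x fw)) * toX ι d (wordVal x h0) * (toX ι d β * u) := by group
      _ = toX ι d (wordVal x fw) * (u * toX ι d (wordVal x h0) * u) * toX ι d β := by
          rw [(u_comm_B S U hfB).eq, ← (u_comm_B S U hB).eq]; group
      _ = _ := by rw [ekey]; group

theorem steps_follow : ∀ s ∈ steps, Follow ι d u (x 1) u s.1 (s.2.2.2 ++ s.2.2.1) := by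
  intro s hs
  simp only [steps, List.mem_cons, List.not_mem_nil, or_false] at hs
  rcases hs with rfl | rfl | rfl | rfl | rfl | rfl | rfl | rfl | rfl | rfl | rfl | rfl | rfl | rfl | rfl | rfl | rfl
  · exact step_follow S Sd U (h := stepH0) (h0 := stepH0_0) (fw := stepF0) (h1 := stepH1_0) (by decide +kernel) step0_h step0_hf step0_p step0_pf step0_k
  · exact step_follow S Sd U (h := stepH1) (h0 := stepH0_1) (fw := stepF1) (h1 := stepH1_1) (by decide +kernel) step1_h step1_hf step1_p step1_pf step1_k
  · exact step_follow S Sd U (h := stepH2) (h0 := stepH0_2) (fw := stepF2) (h1 := stepH1_2) (by decide +kernel) step2_h step2_hf step2_p step2_pf step2_k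
  · exact step_follow S Sd U (h := stepH3) (h0 := stepH0_3) (fw := stepF3) (h1 := stepH1_3) (by decide +kernel) step3_h step3_hf step3_p step3_pf step3_k
  · exact step_follow S Sd U (h := stepH4) (h0 := stepH0_4) (fw := stepF4) (h1 := stepH1_4) (by decide +kernel) step4_h step4_hf step4_p step4_pf step4_k
  · exact step_follow S Sd U (h := stepH5) (h0 := stepH0_5) (fw := stepF5) (h1 := stepH1_5) (by decide +kernel) step5_h step5_hf step5_p step5_pf step5_k
  · exact step_follow S Sd U (h := stepH6) (h0 := stepH0_6) (fw := stepF6) (h1 := stepH1_6) (by decide +kernel) step6_h step6_hf step6_p step6_pf step6_k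
  · exact step_follow S Sd U (h := stepH7) (h0 := stepH0_7) (fw := stepF7) (h1 := stepH1_7) (by decide +kernel) step7_h step7_hf step7_p step7_pf step7_k
  · exact step_follow S Sd U (h := stepH8) (h0 := stepH0_8) (fw := stepF8) (h1 := stepH1_8) (by decide +kernel) step8_h step8_hf step8_p step8_pf step8_k
  · exact step_follow S Sd U (h := stepH9) (h0 := stepH0_9) (fw := stepF9) (h1 := stepH1_9) (by decide +kernel) step9_h step9_hf step9_p step9_pf step9_k
  · exact step_follow S Sd U (h := stepH10) (h0 := stepH0_10) (fw := stepF10) (h1 := stepH1_10) (by decide +kernel) step10_h step10_hf step10_p step10_pf step10_k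
  · exact step_follow S Sd U (h := stepH11) (h0 := stepH0_11) (fw := stepF11) (h1 := stepH1_11) (by decide +kernel) step11_h step11_hf step11_p step11_pf step11_k
  · exact step_follow S Sd U (h := stepH12) (h0 := stepH0_12) (fw := stepF12) (h1 := stepH1_12) (by decide +kernel) step12_h step12_hf step12_p step12_pf step12_k
  · exact step_follow S Sd U (h := stepH13) (h0 := stepH0_13) (fw := stepF13) (h1 := stepH1_13) (by decide +kernel) step13_h step13_hf step13_p step13_pf step13_k
  · exact step_follow S Sd U (h := stepH14) (h0 := stepH0_14) (fw := stepF14) (h1 := stepH1_14) (by decide +kernel) step14_h step14_hf step14_p step14_pf step14_k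
  · exact step_follow S Sd U (h := stepH15) (h0 := stepH0_15) (fw := stepF15) (h1 := stepH1_15) (by decide +kernel) step15_h step15_hf step15_p step15_pf step15_k
  · exact step_follow S Sd U (h := stepH16) (h0 := stepH0_16) (fw := stepF16) (h1 := stepH1_16) (by decide +kernel) step16_h step16_hf step16_p step16_pf step16_k

omit Sd in
theorem walk_follow : ∀ (w : List ℕ), (∀ g ∈ w, g < 12) → ∀ (ss : List Step) (cur e : List ℕ),
    (∀ s ∈ ss, Follow ι d u (x 1) u s.1 (s.2.2.2 ++ s.2.2.1)) →
    walkH w ss cur = some e → Follow ι d u (wordVal x w) (wordVal (img ι d u) w) cur e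
  | [], _, ss, cur, e, _, h => by
    rw [walkH, Option.some.injEq] at h
    subst h
    exact ⟨1, one_mem _, by simp [wordVal], by simp [wordVal, S.twin.map_one]⟩
  | g :: w, hw, ss, cur, e, hss, h => by
    have hg : g ≠ eps := by have := hw g (by simp); simp only [eps]; omega
    have hw' : ∀ a ∈ w, a < 12 := fun a ha => hw a (by simp [ha])
    unfold walkH at h
    split at h
    · next hg1 =>
      subst hg1
      cases ss with
      | nil => simp at h
      | cons s ss =>
        simp only at h
        split at h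
        · next hb =>
          have hcur := beqW_eq hb
          obtain ⟨k1, hk1, a1, b1⟩ := hss s (by simp)
          obtain ⟨k2, hk2, a2, b2⟩ := walk_follow w hw' ss _ e (fun t ht => hss t (by simp [ht])) h
          refine ⟨k2 * k1, mul_mem hk2 hk1, ?_, ?_⟩
          · rw [wordVal, show CosetEnum.gen x 1 = x 1 by simp [CosetEnum.gen, hg], ← hcur,
              show wordVal x w * x 1 * wordVal x s.1 * x 1 = wordVal x w * (x 1 * wordVal x s.1 * x 1) by group,
              a1, show wordVal x w * (wordVal x (s.2.2.2 ++ s.2.2.1) * x 1 * k1) =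
                wordVal x w * wordVal x (s.2.2.2 ++ s.2.2.1) * x 1 * k1 by group, a2]
            group
          · rw [wordVal, show CosetEnum.gen (img ι d u) 1 = u by simp [CosetEnum.gen, hg, img], ← hcur,
              show wordVal (img ι d u) w * u * wordVal (img ι d u) s.1 * u =
                wordVal (img ι d u) w * (u * wordVal (img ι d u) s.1 * u) by group,
              b1, show wordVal (img ι d u) w * (wordVal (img ι d u) (s.2.2.2 ++ s.2.2.1) * u * toX ι d k1) =
                wordVal (img ι d u) w * wordVal (img ι d u) (s.2.2.2 ++ s.2.2.1) * u * toX ι d k1 by group, b2,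
              S.toX_mul hk2 hk1]
            group
        · simp at h
    · obtain ⟨k, hk, a1, b1⟩ := walk_follow w hw' ss _ e hss h
      refine ⟨k, hk, ?_, ?_⟩
      · rw [← a1, wordVal_append, wordVal, Fi24.wordVal_one hg, show CosetEnum.gen x g = x g by simp [CosetEnum.gen, hg]]
        group
      · rw [← b1, wordVal_append, wordVal, show wordVal (img ι d u) [g] = CosetEnum.gen (img ι d u) g by simp [wordVal]]
        group

set_option maxHeartbeats 1000000 in
theorem loop_one : wordVal (img ι d u) loopWord = 1 := by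
  have P := S.twin
  obtain ⟨k, hk, a1, b1⟩ := walk_follow S U loopWord (by decide +kernel) steps loopStart loopEnd
    (steps_follow S Sd U) (by decide +kernel)
  have hx : wordVal x loopWord = 1 :=
    shift_eq_one x_mul_self (R0 := [zWord]) (R := [loopWord]) (by decide +kernel)
      (fun r hr => by
        rw [List.mem_singleton] at hr
        subst hr
        exact x_rel _ (List.mem_append_right _ (by simp [extraWords]))) _ (by simp)
  obtain ⟨ms, es⟩ := val_H S U loopStart (show ∀ g ∈ loopStart, g < 12 ∧ g ≠ 1 by decide +kernel)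
  obtain ⟨me, ee⟩ := val_H S U loopEnd (show ∀ g ∈ loopEnd, g < 12 ∧ g ≠ 1 by decide +kernel)
  have hturn : turn = (wordVal x loopStart)⁻¹ * wordVal x loopEnd := by
    rw [turn, show turnWord = loopEnd ++ loopStart.reverse by decide +kernel, wordVal_append,
      wordVal_reverse x_mul_self]
  obtain ⟨t0, t1⟩ := mem_Lsub.1 turn_mem_L
  have hend : wordVal x loopEnd = wordVal x loopStart * turn := by rw [hturn]; group
  have hk' : k = turn⁻¹ := by
    rw [hx, one_mul] at a1
    calc k = (wordVal x loopEnd * x 1)⁻¹ * (wordVal x loopEnd * x 1 * k) := by group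
      _ = (x 1)⁻¹ * turn⁻¹ * x 1 := by rw [← a1, hend]; group
      _ = turn⁻¹ := by rw [mul_assoc, t1.inv_left.eq]; group
  have hte : toX ι d (wordVal x loopEnd) = toX ι d (wordVal x loopStart) * toX ι d turn := by
    rw [hend, S.toX_mul ms turn_mem]
  have hu := (U.fix turn turn_mem_L).eq
  rw [hk', es, ee, hte, P.map_inv t0,
    show toX ι d (wordVal x loopStart) * toX ι d turn * u * (toX ι d turn)⁻¹ =
      toX ι d (wordVal x loopStart) * (toX ι d turn * u) * (toX ι d turn)⁻¹ by group, ← hu,
    show toX ι d (wordVal x loopStart) * (u * toX ι d turn) * (toX ι d turn)⁻¹ =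
      toX ι d (wordVal x loopStart) * u by group, mul_assoc] at b1
  exact mul_eq_right.1 b1

theorem relators : ∀ w ∈ numbering.pairs ++ extraWords, wordVal (img ι d u) w = 1 := by
  have hinH : ∀ w : List ℕ, hLetters w → wordVal x w = 1 → wordVal (img ι d u) w = 1 := fun w hw e => by
    rw [(val_H S U w hw).2, e, S.twin.map_one]
  intro w hw
  have hx := x_rel w hw
  rcases List.mem_append.1 hw with hp | he
  · rcases pairs24 w hp with h | h | ⟨g, hg, h⟩
    · exact hinH w h hx
    · rw [(val_P S Sd U w h).2, hx, via_fix S Sd U.m0 U.em (Commute.one_left _) (Commute.one_left _),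
        S.twin.map_one]
    · have hg9 : g ∈ ([3, 4, 5, 6, 7, 8, 9, 10, 11] : List ℕ) :=
        (show ∀ g ∈ ([8, 9] : List ℕ), g ∈ ([3, 4, 5, 6, 7, 8, 9, 10, 11] : List ℕ) by decide) g hg
      have hlt := nine_lt hg9
      have eg : img ι d u g = toX ι d (x g) := by rw [img, if_neg (by omega), if_pos hlt.1]
      have hc : Commute (img ι d u 1) (img ι d u g) := by
        rw [eg, img, if_pos rfl]; exact u_comm_B S U (nine_mem_B hg9)
      rcases h with rfl | rfl
      · rw [wordVal_replicate _ 1 g (by decide) (by simp only [eps]; omega), hc.mul_pow, pow_two, pow_two,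
          img_sq S U, img_sq S U, one_mul]
      · rw [wordVal_replicate _ g 1 (by simp only [eps]; omega) (by decide), hc.symm.mul_pow, pow_two, pow_two,
          img_sq S U, img_sq S U, one_mul]
  · simp only [extraWords, List.mem_cons, List.not_mem_nil, or_false] at he
    rcases he with rfl | rfl
    · exact hinH _ (show ∀ g ∈ lWord, g < 12 ∧ g ≠ 1 by decide +kernel) hx
    · exact shift_eq_one (img_sq S U) (R0 := [loopWord]) (R := [zWord]) (by decide +kernel)
        (fun z hz => by rw [List.mem_singleton] at hz; subst hz; exact loop_one S Sd U) _ (by simp)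

omit U in
/-- The presented Fi24 maps to the group, extending the map on the centraliser of the first generator. -/
theorem exists_hom (hst : Steady G₀ ι d) : ∃ Φ : G1 →* X, Function.Injective Φ ∧
    (∀ g ∈ Hsub, Φ g = toX ι d g) ∧ ∀ g, Φ g ∈ G₀ ↔ g ∈ D24 := by
  obtain ⟨m, u, hm0, em, eu, huu, hdu, hout, hfix⟩ := exists_second S Sd hst
  have U : Second ι d r a m u := ⟨hm0, em, eu, huu, hfix⟩
  have hlift := numbering.lift_eq_one (by decide) (img ι d u) (Fi24.map_extra (img ι d u) (img_sq S U))
    (relators S Sd U)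
  obtain ⟨Φ, hΦ⟩ : ∃ Φ : G1 →* X, ∀ n < 12, Φ (x n) = img ι d u n :=
    ⟨PresentedGroup.toGroup hlift, fun n hn => by
      rw [Fi24.x, Numbering.gens, if_pos (show n < numbering.k from hn), PresentedGroup.toGroup.of]
      exact congrArg (img ι d u) (numbering.num_letter n hn)⟩
  have hH : ∀ g ∈ Hsub, Φ g = toX ι d g := by
    intro g hg
    induction hg using Subgroup.closure_induction with
    | mem y hy =>
      obtain ⟨w, hw, rfl⟩ := hy
      obtain ⟨n, hn, hn1, rfl⟩ := (show ∀ w ∈ bigWords, ∃ n < 12, n ≠ 1 ∧ [n] = w by decide +kernel) w hw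
      rw [Fi24.wordVal_one (by simp only [eps]; omega), hΦ n hn, img, if_neg hn1, if_pos hn]
    | one => rw [map_one, S.twin.map_one]
    | mul y z hy hz ihy ihz => rw [map_mul, ihy, ihz, S.toX_mul hy hz]
    | inv y hy ih => rw [map_inv, ih, S.twin.map_inv (mem_H_iff.1 hy)]
  have hd : Φ (x 0) = d := by rw [hH _ l_mem, S.toX_x0]
  haveI : G₀.Normal := Subgroup.normal_of_index_eq_two S.index
  have hpar : ∀ g, Φ g ∈ G₀ ↔ g ∈ D24 := by
    have hle : D24 ≤ G₀.comap Φ := by
      refine (Subgroup.commutator_le (H₁ := (⊤ : Subgroup G1)) (H₂ := ⊤) (H₃ := G₀.comap Φ)).2 fun p _ q _ => ?_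
      have h2 := S.index
      rw [Subgroup.mem_comap, commutatorElement_def, map_mul, map_mul, map_mul, map_inv, map_inv,
        Subgroup.mul_mem_iff_of_index_two h2, Subgroup.mul_mem_iff_of_index_two h2,
        Subgroup.mul_mem_iff_of_index_two h2, inv_mem_iff, inv_mem_iff]
      tauto
    intro g
    refine ⟨fun h => ?_, fun h => hle h⟩
    by_contra hg
    have h2 : Φ (g * x 0) ∈ G₀ := hle (mem_D24_mul hg (by decide))
    rw [map_mul, Subgroup.mul_mem_iff_of_index_two S.index, hd] at h2
    exact S.d_out (h2.1 h)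
  refine ⟨Φ, ?_, hH, hpar⟩
  have hker : Φ.ker ≤ D24 := fun g hg => (hpar g).1 (by rw [MonoidHom.mem_ker.1 hg]; exact one_mem _)
  rw [← MonoidHom.ker_eq_bot_iff]
  haveI := Cfsg.Lib.BigPerm.Fi24.isFi24'.1
  rcases (inferInstance : (Φ.ker.subgroupOf D24).Normal).eq_bot_or_eq_top with h | h
  · rw [Subgroup.subgroupOf_eq_bot, disjoint_iff, inf_eq_left.2 hker] at h
    exact h
  · exfalso
    rw [Subgroup.subgroupOf_eq_top] at h
    have h2 : x 2 * x 0 ∈ D24 := mem_D24_mul (x_not_mem (by decide)) (by decide)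
    have h1 := MonoidHom.mem_ker.1 (h h2)
    have hm2 : x 2 ∈ Hsub := x_mem_Hsub (by decide) (by decide)
    rw [hH _ (mul_mem hm2 l_mem), ← S.twin.map_one] at h1
    have e := S.twin.inj _ _ (mem_H_iff.1 (mul_mem hm2 l_mem)) (Commute.one_left _) h1
    exact x_ne (a := 2) (b := 0) (by decide) (by decide) (by decide) ((eq_inv_of_mul_eq_one_left e).trans (x_conj_sq 0))

end Side

end Cfsg.Lib.Fischer.Cent24
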